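import Groth.Agent.Ega43.CMOpen
import Groth.Agent.S0386
import Groth.Agent.S1341
import Groth.Agent.S1345
import Groth.Agent.S1347

/-!
# Cohen-Macaulay points of morphisms of finite presentation: openness and base change
-/

set_option autoImplicit false

universe u

open CategoryTheory CategoryTheory.Limits AlgebraicGeometry IsLocalRing

namespace K393.SliceCM

open Groth.Agent

theorem iff_moreMor {X Y : Scheme.{u}} (f : X ⟶ Y) (x : X) :
    Grpd.IsCMAt f x ↔ MoreMor.IsCMAt f x :=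
  (Flat2D.FiberStalk.moreMor_isCMAt_iff_grpd_isCMAt f x).symm

theorem isCMAt_comp_iff {U X Y : Scheme.{u}} (j : U ⟶ X) [IsOpenImmersion j] (f : X ⟶ Y) (u : U) :
    Grpd.IsCMAt (j ≫ f) u ↔ Grpd.IsCMAt f (j u) := by
  rw [iff_moreMor, iff_moreMor]
  exact Ega43.CMOpen.isCMAt_comp_iff j f u

theorem isLocallyNoetherian_fiber {X Y : Scheme.{u}} (f : X ⟶ Y) [LocallyOfFiniteType f] (y : Y) :
    IsLocallyNoetherian (f.fiber y) := by
  have : LocallyOfFiniteType (f.fiberToSpecResidueField y) :=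
    inferInstanceAs (LocallyOfFiniteType (pullback.snd _ _))
  exact LocallyOfFiniteType.isLocallyNoetherian (f.fiberToSpecResidueField y)

theorem isCMAt_of_isPullback {X Y X' Y' : Scheme.{u}} {f : X ⟶ Y} {f' : X' ⟶ Y'} {g' : X' ⟶ X}
    {g : Y' ⟶ Y} (h : IsPullback g' f' f g) [LocallyOfFiniteType f] [LocallyOfFiniteType g] (x' : X')
    (hx : Grpd.IsCMAt f (g' x')) : Grpd.IsCMAt f' x' := by
  rw [iff_moreMor] at hx ⊢
  exact S1345.result f (isLocallyNoetherian_fiber f) f' g' g h x' hx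

theorem isCMAt_iff_of_isPullback {X Y X' Y' : Scheme.{u}} {f : X ⟶ Y} {f' : X' ⟶ Y'} {g' : X' ⟶ X}
    {g : Y' ⟶ Y} (h : IsPullback g' f' f g) [LocallyOfFiniteType f] [LocallyOfFiniteType g] [Flat g]
    (x' : X') : Grpd.IsCMAt f' x' ↔ Grpd.IsCMAt f (g' x') := by
  refine ⟨fun hx => ?_, isCMAt_of_isPullback h x'⟩
  rw [iff_moreMor] at hx ⊢
  exact S1347.result f (isLocallyNoetherian_fiber f) f' g' g h x' (Flat.stalkMap g _) hx

theorem isOpen_cmLocus {X Y : Scheme.{u}} (f : X ⟶ Y) [LocallyOfFinitePresentation f] :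
    IsOpen {x : X | Grpd.IsCMAt f x} := by
  let W : X.Opens := ⟨_, S0386.result f⟩
  have hW : ∀ x : X, x ∈ W ↔ (f.stalkMap x).hom.Flat := fun x => Iff.rfl
  have hfl : Flat (W.ι ≫ f) := by
    rw [Flat.iff_flat_stalkMap]
    intro x
    exact (Ega43.CMOpen.flat_stalkMap_comp_iff W.ι f x).mpr x.2
  have h1 := (S1341.result (W.ι ≫ f)).1
  have h2 : {x : X | Grpd.IsCMAt f x} = W.ι '' {x : W | MoreMor.IsCMAt (W.ι ≫ f) x} := by
    ext x
    constructor
    · intro (hx : Grpd.IsCMAt f x)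
      refine ⟨⟨x, hx.1⟩, ?_, rfl⟩
      exact (Ega43.CMOpen.isCMAt_comp_iff W.ι f ⟨x, hx.1⟩).mpr ((iff_moreMor f x).mp hx)
    · rintro ⟨w, hw, rfl⟩
      exact (iff_moreMor f _).mpr ((Ega43.CMOpen.isCMAt_comp_iff W.ι f w).mp hw)
  rw [h2]
  exact W.ι.isOpenEmbedding.isOpenMap _ h1

end K393.SliceCM
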