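import Groth.Agent.Grpd.K393.SliceDim
import Groth.Agent.Grpd.K393.SliceCM
import Groth.Agent.S0402

/-!
# Slices of Cohen-Macaulay groupoids
-/

set_option autoImplicit false

universe u

open CategoryTheory CategoryTheory.Limits AlgebraicGeometry IsLocalRing

namespace K393.SliceMain

open Groth.Agent.Grpsch.Points Groth.Agent.Grpsch.Restrict Groth.Agent.Flat2D.PbStalk Groth.Agent
open K393.SliceStalk K393.SliceLoc K393.SliceDim K393.SliceCM
open K393.Slice (sec sec_fst sec_snd sec_src trans isPullback_trans isPullback_fst iff_sec)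

variable {S : Scheme.{u}} (G : Grpd.GroupoidScheme S)

section Restr

variable {Z V : Scheme.{u}} (j : V ⟶ Z) (g : Z ⟶ G.U)

/-- the map `V ×_U R ⟶ Z ×_U R`. -/
noncomputable def kap : pullback (j ≫ g) G.t ⟶ pullback g G.t :=
  pullback.lift (pullback.fst (j ≫ g) G.t ≫ j) (pullback.snd (j ≫ g) G.t)
    (by rw [Category.assoc, pullback.condition])

@[reassoc (attr := simp)]
lemma kap_fst : kap G j g ≫ pullback.fst g G.t = pullback.fst (j ≫ g) G.t ≫ j :=
  pullback.lift_fst _ _ _

@[reassoc (attr := simp)]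
lemma kap_snd : kap G j g ≫ pullback.snd g G.t = pullback.snd (j ≫ g) G.t :=
  pullback.lift_snd _ _ _

lemma isPullback_kap : IsPullback (kap G j g) (pullback.fst (j ≫ g) G.t) (pullback.fst g G.t) j := by
  have h1 : IsPullback (pullback.snd g G.t) (pullback.fst g G.t) G.t g :=
    (IsPullback.of_hasPullback g G.t).flip
  have h2 : IsPullback (kap G j g ≫ pullback.snd g G.t) (pullback.fst (j ≫ g) G.t) G.t (j ≫ g) := by
    rw [kap_snd]
    exact (IsPullback.of_hasPullback (j ≫ g) G.t).flip
  exact IsPullback.of_right h2 (kap_fst G j g) h1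

instance [IsOpenImmersion j] : IsOpenImmersion (kap G j g) :=
  MorphismProperty.of_isPullback (P := @IsOpenImmersion) (isPullback_kap G j g).flip ‹_›

lemma kap_src : kap G j g ≫ K393.Slice.src G g = K393.Slice.src G (j ≫ g) := by
  rw [K393.Slice.src, kap_snd_assoc]

lemma sec_kap : sec G (j ≫ g) ≫ kap G j g = j ≫ sec G g := by
  apply pullback.hom_ext
  · rw [Category.assoc, kap_fst, Category.assoc, sec_fst, ← Category.assoc, sec_fst,
      Category.id_comp, Category.comp_id]
  · rw [Category.assoc, kap_snd, Category.assoc, sec_snd, sec_snd, Category.assoc]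

lemma sec_kap_apply (v : V) : kap G j g (sec G (j ≫ g) v) = sec G g (j v) := by
  rw [← Scheme.Hom.comp_apply, sec_kap, Scheme.Hom.comp_apply]

lemma kap_snd_apply (v : ↥(pullback (j ≫ g) G.t)) :
    pullback.snd g G.t (kap G j g v) = pullback.snd (j ≫ g) G.t v := by
  rw [← Scheme.Hom.comp_apply, kap_snd]

end Restr

/-- `dim G_u` is a natural number at most the fibre dimension of `s` at `e(u)`. -/
theorem exists_dim_stab' [LocallyOfFiniteType G.s] (u : G.U)
    (hCM : Grpd.IsCMAt G.s (G.e u))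
    (hu : LocallyOfFiniteType (restrict G (G.U.fromSpecResidueField u)).s) :
    ∃ d n : ℕ, topologicalKrullDim ↥(G.stabilizerToU.fiber u) = d ∧
      FlatMor.fibreDimAt G.s (G.e u) = ((d + n : ℕ) : WithBot ℕ∞) := by
  obtain ⟨d₂, hd₂⟩ := exists_fibreDimAt_e G u hCM
  have hes : LocallyQuasiFinite (G.e ≫ G.s) := by rw [G.e_s]; infer_instance
  have hes' : LocallyOfFiniteType (G.e ≫ G.s) := by rw [G.e_s]; infer_instance
  have hds := fibreDimAt_of_section G.s G.e u
  have h := ringKrullDim_stab' G u hu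
  have := hCM.2
  let I := fiberIdeal G.s (G.e u)
  let J := fiberIdeal G.t (G.e u)
  have hIJ : I ⊔ J ≤ maximalIdeal (G.R.presheaf.stalk (G.e u)) :=
    sup_le (fiberIdeal_le_maximalIdeal G.s (G.e u)) (fiberIdeal_le_maximalIdeal G.t (G.e u))
  let φ := Ideal.Quotient.factor (le_sup_left : I ≤ I ⊔ J)
  have hφ : Function.Surjective φ := Ideal.Quotient.factor_surjective _
  have : Nontrivial (G.R.presheaf.stalk (G.e u) ⧸ (I ⊔ J)) :=
    Ideal.Quotient.nontrivial_iff.mpr (fun h => by
      rw [h] at hIJ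
      exact (maximalIdeal.isMaximal _).ne_top (top_le_iff.mp hIJ))
  have : IsNoetherianRing (G.R.presheaf.stalk (G.e u) ⧸ (I ⊔ J)) :=
    isNoetherianRing_of_surjective _ _ φ hφ
  have : IsLocalRing (G.R.presheaf.stalk (G.e u) ⧸ (I ⊔ J)) :=
    IsLocalRing.of_surjective' φ hφ
  obtain ⟨d, hd⟩ := exists_natCast (R := G.R.presheaf.stalk (G.e u) ⧸ (I ⊔ J))
  have hle := ringKrullDim_le_of_surjective φ hφ
  have h1 : topologicalKrullDim ↥(G.stabilizerToU.fiber u) = d := h.symm.trans hd
  rw [hd, ← hds, hd₂] at hle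
  have hle' : d ≤ d₂ := by exact_mod_cast hle
  exact ⟨d, d₂ - d, h1, by rw [hd₂, Nat.add_sub_cancel' hle']⟩

/-- Slice with all of `src` Cohen-Macaulay along the identity section and prescribed fibre dimension, at
a point `u` with `R|_u` locally of finite type over `κ(u)`. -/
theorem exists_slice' [LocallyOfFinitePresentation G.s] [LocallyOfFinitePresentation G.t] (u : G.U)
    (hCM : Grpd.IsCMAt G.s (G.e u))
    (hu : LocallyOfFiniteType (restrict G (G.U.fromSpecResidueField u)).s) :
    ∃ (Z : Scheme.{u}) (g : Z ⟶ G.U) (z : Z) (d : ℕ), IsAffine Z ∧ IsImmersion g ∧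
      LocallyOfFinitePresentation g ∧ g z = u ∧ pullback.snd g G.t (sec G g z) = G.e u ∧
      topologicalKrullDim ↥(G.stabilizerToU.fiber u) = d ∧
      FlatMor.fibreDimAt (K393.Slice.src G g) (sec G g z) = d ∧
      (∀ w : Z, Grpd.IsCMAt (K393.Slice.src G g) (sec G g w)) ∧
      (∀ w : Z, FlatMor.fibreDimAt (K393.Slice.src G g) (sec G g w) ≤ d) := by
  obtain ⟨d, n, hd, hn⟩ := exists_dim_stab' G u hCM hu
  obtain ⟨Z, g, z, h1, h2, h3, h4, h5, h6, h7⟩ := exists_slice_point' G u hCM hu n
    (by rw [hd, hn]; exact_mod_cast le_rfl)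
  have hsrc : LocallyOfFinitePresentation (K393.Slice.src G g) := by
    have : LocallyOfFinitePresentation (pullback.snd g G.t) := inferInstance
    unfold K393.Slice.src
    infer_instance
  have h8 : FlatMor.fibreDimAt (K393.Slice.src G g) (sec G g z) = d := by
    rw [hn] at h7
    apply K616.DimInv.add_natCast_cancel n
    rw [h7]
    exact_mod_cast rfl
  have ho1 : IsOpen {w : Z | Grpd.IsCMAt (K393.Slice.src G g) (sec G g w)} :=
    (isOpen_cmLocus (K393.Slice.src G g)).preimage (sec G g).continuous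
  have ho2 : IsOpen {w : Z | FlatMor.fibreDimAt (K393.Slice.src G g) (sec G g w) ≤ d} :=
    (S0402.result (K393.Slice.src G g) d).preimage (sec G g).continuous
  obtain ⟨V, hV, hzV, hVW⟩ : ∃ V : Z.Opens, IsAffine V ∧ z ∈ V ∧ (V : Set Z) ⊆
      {w : Z | Grpd.IsCMAt (K393.Slice.src G g) (sec G g w)} ∩
        {w : Z | FlatMor.fibreDimAt (K393.Slice.src G g) (sec G g w) ≤ d} := by
    have hm : z ∈ {w : Z | Grpd.IsCMAt (K393.Slice.src G g) (sec G g w)} ∩
        {w : Z | FlatMor.fibreDimAt (K393.Slice.src G g) (sec G g w) ≤ d} := ⟨h6, h8.le⟩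
    obtain ⟨_, ⟨V, hV, rfl⟩, hzV, hVW⟩ :=
      Z.isBasis_affineOpens.exists_subset_of_mem_open hm (ho1.inter ho2)
    exact ⟨V, hV, hzV, hVW⟩
  refine ⟨V, V.ι ≫ g, ⟨z, hzV⟩, d, hV, inferInstance, inferInstance, h4, ?_, hd, ?_, ?_, ?_⟩
  · rw [← kap_snd_apply, sec_kap_apply]
    exact h5
  · rw [← kap_src, Ega4fib.H172.FibDimBC.fibreDimAt_isOpenImmersion_comp, sec_kap_apply]
    exact h8
  · intro w
    rw [← kap_src, isCMAt_comp_iff, sec_kap_apply]
    exact (hVW w.2).1
  · intro w
    rw [← kap_src, Ega4fib.H172.FibDimBC.fibreDimAt_isOpenImmersion_comp, sec_kap_apply]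
    exact (hVW w.2).2

/-- Slice with all of `src` Cohen-Macaulay along the identity section and prescribed fibre dimension. -/
theorem exists_slice [LocallyOfFinitePresentation G.s] [LocallyOfFinitePresentation G.t] (u : G.U)
    (hCM : Grpd.IsCMAt G.s (G.e u)) (hu : LocallyOfFiniteType (G.U.fromSpecResidueField u)) :
    ∃ (Z : Scheme.{u}) (g : Z ⟶ G.U) (z : Z) (d : ℕ), IsAffine Z ∧ IsImmersion g ∧
      LocallyOfFinitePresentation g ∧ g z = u ∧ pullback.snd g G.t (sec G g z) = G.e u ∧
      topologicalKrullDim ↥(G.stabilizerToU.fiber u) = d ∧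
      FlatMor.fibreDimAt (K393.Slice.src G g) (sec G g z) = d ∧
      (∀ w : Z, Grpd.IsCMAt (K393.Slice.src G g) (sec G g w)) ∧
      (∀ w : Z, FlatMor.fibreDimAt (K393.Slice.src G g) (sec G g w) ≤ d) :=
  exists_slice' G u hCM (locallyOfFiniteType_restrict_s G u hu)

theorem isPullback_jj {U' : Scheme.{u}} (g : U' ⟶ G.U)
    (jj : arrows G g ⟶ pullback (g ≫ G.pU) (g ≫ G.pU))
    (j1 : jj ≫ pullback.fst (g ≫ G.pU) (g ≫ G.pU) = tgt G g)
    (j2 : jj ≫ pullback.snd (g ≫ G.pU) (g ≫ G.pU) = src G g)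
    (m : pullback (g ≫ G.pU) (g ≫ G.pU) ⟶ pullback G.pU G.pU)
    (m1 : m ≫ pullback.fst G.pU G.pU = pullback.fst (g ≫ G.pU) (g ≫ G.pU) ≫ g)
    (m2 : m ≫ pullback.snd G.pU G.pU = pullback.snd (g ≫ G.pU) (g ≫ G.pU) ≫ g) :
    IsPullback (toR G g) jj G.j m := by
  refine isPullback_of_exists ?_ ?_ ?_
  · apply pullback.hom_ext
    · rw [Category.assoc, j_fst, Category.assoc, m1, reassoc_of% j1, toR_t]
    · rw [Category.assoc, j_snd, Category.assoc, m2, reassoc_of% j2, toR_s]
  · intro T a b hab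
    have h1 : a ≫ G.t = (b ≫ pullback.fst (g ≫ G.pU) (g ≫ G.pU)) ≫ g := by
      have := congr($hab ≫ pullback.fst G.pU G.pU)
      rw [Category.assoc, j_fst, Category.assoc, m1] at this
      rw [this, Category.assoc]
    have h2 : a ≫ G.s = (b ≫ pullback.snd (g ≫ G.pU) (g ≫ G.pU)) ≫ g := by
      have := congr($hab ≫ pullback.snd G.pU G.pU)
      rw [Category.assoc, j_snd, Category.assoc, m2] at this
      rw [this, Category.assoc]
    refine ⟨mk G g _ a _ h1 h2, mk_toR .., ?_⟩
    apply pullback.hom_ext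
    · rw [Category.assoc, j1, mk_tgt]
    · rw [Category.assoc, j2, mk_src]
  · intro T a b h1 h2
    apply arrows_hom_ext
    · rw [← j1, reassoc_of% h2]
    · exact h1
    · rw [← j2, reassoc_of% h2]

/-- The restriction along `g` as a base change of `j`. -/
theorem isPullback_restrict_j {U' : Scheme.{u}} (g : U' ⟶ G.U) :
    IsPullback (toR G g) (restrict G g).j G.j (pullback.map (g ≫ G.pU) (g ≫ G.pU) G.pU G.pU g g (𝟙 S)
      (Category.comp_id _) (Category.comp_id _)) :=
  isPullback_jj G g (restrict G g).j (j_fst (restrict G g)) (j_snd (restrict G g)) _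
    (pullback.lift_fst _ _ _) (pullback.lift_snd _ _ _)

theorem locallyOfFiniteType_snd_of_mono {X Y W : Scheme.{u}} (a : X ⟶ Y) (m : Y ⟶ W) [Mono m]
    [LocallyOfFiniteType a] : LocallyOfFiniteType (pullback.snd (a ≫ m) (a ≫ m)) := by
  have h1 : IsPullback (pullback.fst a a) (pullback.snd a a) (a ≫ m) (a ≫ m) := by
    refine isPullback_of_exists (by rw [pullback.condition_assoc]) ?_ ?_
    · intro T x y h
      have h' : x ≫ a = y ≫ a := by
        rw [← cancel_mono m, Category.assoc, Category.assoc]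
        exact h
      exact ⟨pullback.lift x y h', pullback.lift_fst _ _ _, pullback.lift_snd _ _ _⟩
    · exact fun x y h h' => pullback.hom_ext h h'
  have h2 : h1.isoPullback.inv ≫ pullback.snd a a = pullback.snd (a ≫ m) (a ≫ m) :=
    h1.isoPullback_inv_snd
  rw [← h2]
  infer_instance

/-- If `κ(u)` is finite over `κ(pU u)` (for example `u` is closed in its fibre over `S` and `U ⟶ S` is
locally of finite type) and `s` is locally of finite type, then `R|_u` is locally of finite type over
`κ(u)`. -/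
theorem locallyOfFiniteType_restrict_s_of_finite [LocallyOfFiniteType G.s]
    (u : G.U) (hu : LocallyOfFiniteType (Spec.map (G.pU.residueFieldMap u))) :
    LocallyOfFiniteType (restrict G (G.U.fromSpecResidueField u)).s := by
  let x := G.U.fromSpecResidueField u
  have hj : LocallyOfFiniteType G.j := by
    have : LocallyOfFiniteType (G.j ≫ pullback.snd G.pU G.pU) := by rw [j_snd]; infer_instance
    exact locallyOfFiniteType_of_comp G.j (pullback.snd G.pU G.pU)
  have hj' : LocallyOfFiniteType (restrict G x).j :=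
    MorphismProperty.of_isPullback (P := @LocallyOfFiniteType) (isPullback_restrict_j G x) hj
  have h1 : (restrict G x).j ≫ pullback.snd (restrict G x).pU (restrict G x).pU =
    (restrict G x).s := j_snd (restrict G x)
  have h2 : Spec.map (G.pU.residueFieldMap u) ≫ S.fromSpecResidueField (G.pU u) = x ≫ G.pU :=
    Scheme.Hom.SpecMap_residueFieldMap_fromSpecResidueField G.pU u
  have h3 : LocallyOfFiniteType (pullback.snd (restrict G x).pU (restrict G x).pU) := by
    change LocallyOfFiniteType (pullback.snd (x ≫ G.pU) (x ≫ G.pU))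
    rw [← h2]
    exact locallyOfFiniteType_snd_of_mono _ _
  have h4 : LocallyOfFiniteType
      ((restrict G x).j ≫ pullback.snd (restrict G x).pU (restrict G x).pU) :=
    inferInstance
  rw [h1] at h4
  exact h4

theorem flat_of_isCMAt {X Y : Scheme.{u}} (f : X ⟶ Y) (h : ∀ x, Grpd.IsCMAt f x) : Flat f := by
  rw [Flat.iff_flat_stalkMap]
  exact fun x => (h x).1

/-- The Cohen-Macaulay property spreads from the identity section. -/
theorem isCMAt_src [LocallyOfFiniteType G.s] [LocallyOfFiniteType G.t]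
    (hs : ∀ r : G.R, Grpd.IsCMAt G.s r) (ht : ∀ r : G.R, Grpd.IsCMAt G.t r) {Z : Scheme.{u}}
    (g : Z ⟶ G.U) [LocallyOfFiniteType g]
    (h : ∀ w : Z, Grpd.IsCMAt (K393.Slice.src G g) (sec G g w)) (v : ↥(pullback g G.t)) :
    Grpd.IsCMAt (K393.Slice.src G g) v := by
  have f1 := flat_of_isCMAt G.s hs
  have f2 := flat_of_isCMAt G.t ht
  have hsrc : LocallyOfFiniteType (K393.Slice.src G g) := by
    have : LocallyOfFiniteType (pullback.snd g G.t) := inferInstance
    unfold K393.Slice.src
    infer_instance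
  exact (iff_sec G g Grpd.IsCMAt (fun q => isCMAt_iff_of_isPullback (isPullback_trans G g) q)
    (fun q => isCMAt_iff_of_isPullback (isPullback_fst G g) q) v).mpr (h _)

theorem fibreDimAt_src_le [LocallyOfFiniteType G.s] [LocallyOfFiniteType G.t] {Z : Scheme.{u}}
    (g : Z ⟶ G.U) [LocallyOfFiniteType g] (d : WithBot ℕ∞)
    (h : ∀ w : Z, FlatMor.fibreDimAt (K393.Slice.src G g) (sec G g w) ≤ d)
    (v : ↥(pullback g G.t)) : FlatMor.fibreDimAt (K393.Slice.src G g) v ≤ d := by
  have hsrc : LocallyOfFiniteType (K393.Slice.src G g) := by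
    have : LocallyOfFiniteType (pullback.snd g G.t) := inferInstance
    unfold K393.Slice.src
    infer_instance
  exact (iff_sec G g (fun f x => FlatMor.fibreDimAt f x ≤ d)
    (fun q => by
      rw [Ega4fib.H172.FibDimBC.fibreDimAt_of_isPullback (isPullback_trans G g)])
    (fun q => by
      rw [Ega4fib.H172.FibDimBC.fibreDimAt_of_isPullback (isPullback_fst G g)]) v).mpr (h _)

theorem isCMAt_restrict_t {U' : Scheme.{u}} (g : U' ⟶ G.U)
    (h : ∀ q, Grpd.IsCMAt (restrict G g).s q) (q : (restrict G g).R) :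
    Grpd.IsCMAt (restrict G g).t q := by
  let e := iIso (restrict G g)
  have he : e.hom ≫ (restrict G g).s = (restrict G g).t := i_s (restrict G g)
  rw [← he, isCMAt_comp_iff]
  exact h _

end K393.SliceMain
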