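import Groth.Agent.Grpd.K393.Slice
import Groth.Agent.Grpsch.Restrict
import Groth.Agent.S0593

/-!
# Invariant affine opens and restriction along integral morphisms
-/

set_option autoImplicit false

universe u

open CategoryTheory CategoryTheory.Limits AlgebraicGeometry TopologicalSpace

namespace K393.IntInv

open Groth.Agent.Grpsch.Points Groth.Agent.Grpsch.Restrict

/-- Chevalley: a saturated affine open upstairs of an integral surjective morphism comes from an affine
open. -/
theorem exists_isAffineOpen {X Y : Scheme.{u}} (h : X ⟶ Y) [IsIntegralHom h]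
    (hs : Function.Surjective h) (W : X.Opens) (hW : IsAffineOpen W)
    (hsat : ∀ x x' : X, h x = h x' → x ∈ W → x' ∈ W) :
    ∃ V : Y.Opens, IsAffineOpen V ∧ h ⁻¹ᵁ V = W := by
  have hc : IsClosed (h '' (W : Set X)ᶜ) := h.isClosedMap _ W.2.isClosed_compl
  let V : Y.Opens := ⟨(h '' (W : Set X)ᶜ)ᶜ, hc.isOpen_compl⟩
  have hV : h ⁻¹ᵁ V = W := by
    ext x
    constructor
    · intro hx
      by_contra hn
      exact hx ⟨x, hn, rfl⟩
    · rintro hx ⟨x', hx', he⟩
      exact hx' (hsat x x' he.symm hx)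
  refine ⟨V, ?_, hV⟩
  have h1 : IsAffine (h ⁻¹ᵁ V : X.Opens) := by rw [hV]; exact hW
  have h2 : Surjective (h ∣_ V) := by
    have : Surjective h := ⟨hs⟩
    exact MorphismProperty.of_isPullback (P := @Surjective) (isPullback_morphismRestrict h V).flip this
  have h3 : UniversallyClosed (h ∣_ V) := by
    have : IsIntegralHom (h ∣_ V) := inferInstance
    infer_instance
  exact Groth.Agent.S0593.result _ _ (h ∣_ V)

variable {S : Scheme.{u}} (G : Grpd.GroupoidScheme S) {U' : Scheme.{u}} (g : U' ⟶ G.U)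

/-- two arrows with the same source give an arrow of the restriction. -/
theorem exists_arrow (v v' : ↥(pullback g G.t)) (h : K393.Slice.src G g v = K393.Slice.src G g v') :
    ∃ w : ↥(arrows G g), tgt G g w = pullback.fst g G.t v ∧ Groth.Agent.Grpsch.Restrict.src G g w =
      pullback.fst g G.t v' := by
  let h0 := K393.Slice.src G g
  obtain ⟨ξ, hξ1, hξ2⟩ := Scheme.Pullback.exists_preimage_pullback v v' h
  let a := pullback.fst h0 h0
  let b := pullback.snd h0 h0
  have hab : a ≫ pullback.snd g G.t ≫ G.s = b ≫ pullback.snd g G.t ≫ G.s := pullback.condition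
  have e1 : (a ≫ pullback.snd g G.t) ≫ G.s = ((b ≫ pullback.snd g G.t) ≫ G.i) ≫ G.t := by
    rw [inv_t, Category.assoc, hab, Category.assoc]
  let m := mk G g (a ≫ pullback.fst g G.t)
    (mul G (a ≫ pullback.snd g G.t) ((b ≫ pullback.snd g G.t) ≫ G.i) e1)
    (b ≫ pullback.fst g G.t)
    (by rw [mul_t, Category.assoc, Category.assoc, pullback.condition])
    (by rw [mul_s, inv_s, Category.assoc, Category.assoc, pullback.condition])
  have m1 : m ≫ tgt G g = a ≫ pullback.fst g G.t := mk_tgt ..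
  have m2 : m ≫ Groth.Agent.Grpsch.Restrict.src G g = b ≫ pullback.fst g G.t := mk_src ..
  refine ⟨m ξ, ?_, ?_⟩
  · rw [← Scheme.Hom.comp_apply, m1, Scheme.Hom.comp_apply]
    exact congrArg _ hξ1
  · rw [← Scheme.Hom.comp_apply, m2, Scheme.Hom.comp_apply]
    exact congrArg _ hξ2

theorem exists_invariant_affine [IsIntegralHom G.s] [IsIntegralHom G.t] [IsIntegralHom g]
    (horb : ∀ u : G.U, ∃ r : G.R, G.s r = u ∧ G.t r ∈ Set.range g) (u' : U') (W' : U'.Opens)
    (hW' : IsAffineOpen W') (hu' : u' ∈ W')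
    (hinv : tgt G g ⁻¹ᵁ W' = Groth.Agent.Grpsch.Restrict.src G g ⁻¹ᵁ W') :
    ∃ W : G.U.Opens, IsAffineOpen W ∧ g u' ∈ W ∧ G.s ⁻¹ᵁ W = G.t ⁻¹ᵁ W := by
  have hint : IsIntegralHom (K393.Slice.src G g) := by
    have : IsIntegralHom (pullback.snd g G.t) := inferInstance
    unfold K393.Slice.src
    infer_instance
  have hsurj : Function.Surjective (K393.Slice.src G g) := by
    intro u
    obtain ⟨r, hr, ⟨w, hw⟩⟩ := horb u
    obtain ⟨ξ, hξ1, hξ2⟩ := Scheme.Pullback.exists_preimage_pullback w r hw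
    refine ⟨ξ, ?_⟩
    rw [K393.Slice.src, Scheme.Hom.comp_apply, hξ2, hr]
  have hWa : IsAffineOpen (pullback.fst g G.t ⁻¹ᵁ W') := hW'.preimage _
  obtain ⟨W, hW1, hW2⟩ := exists_isAffineOpen (K393.Slice.src G g) hsurj _ hWa (by
    intro v v' hv hvW
    obtain ⟨w, hw1, hw2⟩ := exists_arrow G g v v' hv
    have h1 : w ∈ tgt G g ⁻¹ᵁ W' := by
      change tgt G g w ∈ W'
      rw [hw1]
      exact hvW
    rw [hinv] at h1
    change pullback.fst g G.t v' ∈ W'
    rw [← hw2]
    exact h1)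
  have hW3 : ∀ v, K393.Slice.src G g v ∈ W ↔ pullback.fst g G.t v ∈ W' := by
    intro v
    have := SetLike.ext_iff.mp hW2 v
    exact this
  refine ⟨W, hW1, ?_, ?_⟩
  · have h1 := hW3 (K393.Slice.sec G g u')
    rw [← Scheme.Hom.comp_apply, ← Scheme.Hom.comp_apply, K393.Slice.sec_src,
      K393.Slice.sec_fst] at h1
    exact h1.mpr hu'
  · ext r
    obtain ⟨v, hv⟩ := hsurj (G.t r)
    obtain ⟨ξ, hξ1, hξ2⟩ := Scheme.Pullback.exists_preimage_pullback v r hv
    have h1 := hW3 (K393.Slice.trans G g ξ)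
    rw [← Scheme.Hom.comp_apply, ← Scheme.Hom.comp_apply, K393.Slice.trans_src,
      K393.Slice.trans_fst, Scheme.Hom.comp_apply, Scheme.Hom.comp_apply, hξ1, hξ2, ← hW3 v,
      hv] at h1
    exact h1

end K393.IntInv
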