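import Groth.Agent.Grpsch.Points
import Mathlib.AlgebraicGeometry.Sites.Fpqc
import Mathlib.AlgebraicGeometry.Sites.Etale
import Mathlib.CategoryTheory.MorphismProperty.Local
import Mathlib.AlgebraicGeometry.Morphisms.Smooth
import Mathlib.AlgebraicGeometry.Morphisms.Etale
import Mathlib.AlgebraicGeometry.Morphisms.FlatMono

/-!
# The largest open over which a morphism has a property local on the target is invariant

Let `G` be a groupoid scheme, `f : X ⟶ U` a morphism whose base changes along `s` and `t` are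
isomorphic over `R`, `K` the precoverage of jointly surjective families of `Q`-morphisms and `P` a
property which is `K`-local on the target.  The largest open `W` of `U` such that `f ∣_ W` has `P` is
invariant under `G`.
-/

set_option autoImplicit false

universe u

open CategoryTheory Limits AlgebraicGeometry

namespace K393.MaxOpen

open Groth.Agent.Grpsch.Points

/-- `P` of the base change along a covering of an open of the target. -/
theorem iff_of_cover (P Q : MorphismProperty Scheme.{u}) [P.IsLocalAtTarget (Scheme.precoverage Q)]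
    {X Y N M : Scheme.{u}} (f : X ⟶ Y) (W : Y.Opens) (σ : N ⟶ W) (hσ : Function.Surjective σ)
    (hQ : Q σ) {A : M ⟶ X} {q : M ⟶ N} (h : IsPullback A q f (σ ≫ W.ι)) :
    P (f ∣_ W) ↔ P q := by
  have h1 : Presieve.singleton σ ∈ Scheme.precoverage Q (W : Scheme.{u}) :=
    (Scheme.singleton_mem_precoverage_iff Q σ).2 ⟨hσ, hQ⟩
  rw [MorphismProperty.IsLocalAtTarget.iff_of_forall_pullbackSnd (P := P)
    (K := Scheme.precoverage Q) h1]
  have h2 : IsPullback (pullback.fst (f ∣_ W) σ ≫ (f ⁻¹ᵁ W).ι) (pullback.snd (f ∣_ W) σ) f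
      (σ ≫ W.ι) :=
    (IsPullback.of_hasPullback (f ∣_ W) σ).paste_horiz (isPullback_morphismRestrict f W).flip
  have h3 : P (pullback.snd (f ∣_ W) σ) ↔ P q := by
    rw [← h2.isoIsPullback_hom_snd _ _ h]
    exact P.cancel_left_of_respectsIso _ _
  constructor
  · intro H
    exact h3.1 (H σ (Presieve.singleton_self σ))
  · intro H U g _ hg
    obtain ⟨⟩ := hg
    exact h3.2 H

/-- The lift of a `Q`-morphism through an open containing its image. -/
theorem prop_lift (Q : MorphismProperty Scheme.{u}) [Q.IsStableUnderBaseChange] {N Y W : Scheme.{u}}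
    (j : W ⟶ Y) [Mono j] (τ : N ⟶ W) (h : Q (τ ≫ j)) : Q τ := by
  have h2 : IsPullback (𝟙 N) τ (τ ≫ j) j := by
    refine ⟨⟨by simp⟩, ⟨PullbackCone.IsLimit.mk _ (fun r => r.fst) ?_ ?_ ?_⟩⟩
    · intro r; simp
    · intro r
      rw [← cancel_mono j, Category.assoc, r.condition]
    · intro r m h1 _
      simpa using h1
  exact Q.of_isPullback h2 h

variable {S : Scheme.{u}} (G : Grpd.GroupoidScheme S)

theorem inv_of_max (P Q : MorphismProperty Scheme.{u}) [P.IsLocalAtTarget (Scheme.precoverage Q)]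
    [Q.IsStableUnderBaseChange]
    (hQc : ∀ {X Y Z : Scheme.{u}} (f : X ⟶ Y) (g : Y ⟶ Z) [IsOpenImmersion f], Q g → Q (f ≫ g))
    (hQo : ∀ {X Y : Scheme.{u}} (f : X ⟶ Y), Q f → IsOpenMap f)
    (hs : Q G.s) (ht : Q G.t) {X M : Scheme.{u}} (f : X ⟶ G.U) {a b : M ⟶ X} {q : M ⟶ G.R}
    (ha : IsPullback a q f G.s) (hb : IsPullback b q f G.t)
    (W : G.U.Opens) (hW : P (f ∣_ W)) (hmax : ∀ W' : G.U.Opens, P (f ∣_ W') → W' ≤ W) :
    G.s ⁻¹ᵁ W = G.t ⁻¹ᵁ W := by
  have hle : ∀ r : G.R, G.s r ∈ W → G.t r ∈ W := by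
    let N : G.R.Opens := G.s ⁻¹ᵁ W
    let W' : G.U.Opens := ⟨G.t '' (N : Set G.R), hQo G.t ht _ N.2⟩
    let σ : (N : Scheme.{u}) ⟶ (W : Scheme.{u}) := G.s ∣_ W
    have hσι : σ ≫ W.ι = N.ι ≫ G.s := morphismRestrict_ι _ _
    have hσ' : Surjective σ :=
      MorphismProperty.of_isPullback (isPullback_morphismRestrict G.s W).flip inferInstance
    have hσQ : Q σ := Q.of_isPullback (isPullback_morphismRestrict G.s W).flip hs
    have hNt : N ≤ G.t ⁻¹ᵁ W' := fun r hr => ⟨r, hr, rfl⟩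
    let τ : (N : Scheme.{u}) ⟶ (W' : Scheme.{u}) := G.t.resLE W' N hNt
    have hτι : τ ≫ W'.ι = N.ι ≫ G.t := Scheme.Hom.resLE_comp_ι _ _
    have hτs : Function.Surjective τ := by
      rintro ⟨x, r, hr, rfl⟩
      refine ⟨⟨r, hr⟩, ?_⟩
      apply W'.ι.isOpenEmbedding.injective
      have h0 : W'.ι (τ ⟨r, hr⟩) = (τ ≫ W'.ι) ⟨r, hr⟩ := rfl
      rw [h0, hτι]
      rfl
    have hτQ : Q τ := by
      apply prop_lift Q W'.ι
      rw [hτι]
      exact hQc _ _ ht
    have hres := (isPullback_morphismRestrict q N).flip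
    have hq1 : IsPullback ((q ⁻¹ᵁ N).ι ≫ a) (q ∣_ N) f (σ ≫ W.ι) := by
      rw [hσι]; exact hres.paste_horiz ha
    have hq2 : IsPullback ((q ⁻¹ᵁ N).ι ≫ b) (q ∣_ N) f (τ ≫ W'.ι) := by
      rw [hτι]; exact hres.paste_horiz hb
    have h1 := (iff_of_cover P Q f W σ hσ'.surj hσQ hq1).1 hW
    have h2 := (iff_of_cover P Q f W' τ hτs hτQ hq2).2 h1
    intro r hr
    exact hmax W' h2 ⟨r, hr, rfl⟩
  ext r
  constructor
  · exact hle r
  · intro hr
    have h1 : G.t (G.i r) = G.s r := by rw [← Scheme.Hom.comp_apply, G.i_t]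
    have h2 : G.s (G.i r) = G.t r := by rw [← Scheme.Hom.comp_apply, G.i_s]
    have h3 := hle (G.i r) (by rw [h2]; exact hr)
    rw [h1] at h3
    exact h3

/-- The four (pre)topologies at once. -/
theorem inv_of_max_of_eq (K : Precoverage Scheme.{u})
    (hK : K = Scheme.zariskiPrecoverage ∨ K = Scheme.etalePrecoverage ∨
      K = Scheme.precoverage @Smooth ∨ K = Scheme.fppfPrecoverage)
    (P : MorphismProperty Scheme.{u}) [P.IsLocalAtTarget K]
    (hs : Presieve.singleton G.s ∈ K G.U) (ht : Presieve.singleton G.t ∈ K G.U)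
    {X M : Scheme.{u}} (f : X ⟶ G.U) {a b : M ⟶ X} {q : M ⟶ G.R}
    (ha : IsPullback a q f G.s) (hb : IsPullback b q f G.t)
    (W : G.U.Opens) (hW : P (f ∣_ W)) (hmax : ∀ W' : G.U.Opens, P (f ∣_ W') → W' ≤ W) :
    G.s ⁻¹ᵁ W = G.t ⁻¹ᵁ W := by
  rcases hK with rfl | rfl | rfl | rfl
  · exact inv_of_max G P @IsOpenImmersion (fun f g _ hg => inferInstance)
      (fun f hf => f.isOpenEmbedding.isOpenMap) ((Scheme.singleton_mem_precoverage_iff _ _).1 hs).2
      ((Scheme.singleton_mem_precoverage_iff _ _).1 ht).2 f ha hb W hW hmax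
  · have : P.IsLocalAtTarget (Scheme.precoverage @Etale) :=
      inferInstanceAs (P.IsLocalAtTarget Scheme.etalePrecoverage)
    exact inv_of_max G P @Etale (fun f g _ hg => inferInstance) (fun f hf => f.isOpenMap)
      ((Scheme.singleton_mem_precoverage_iff _ _).1 hs).2
      ((Scheme.singleton_mem_precoverage_iff _ _).1 ht).2 f ha hb W hW hmax
  · exact inv_of_max G P @Smooth (fun f g _ hg => inferInstance) (fun f hf => f.isOpenMap)
      ((Scheme.singleton_mem_precoverage_iff _ _).1 hs).2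
      ((Scheme.singleton_mem_precoverage_iff _ _).1 ht).2 f ha hb W hW hmax
  · have : P.IsLocalAtTarget (Scheme.precoverage
        (@Flat ⊓ @LocallyOfFinitePresentation : MorphismProperty Scheme.{u})) :=
      inferInstanceAs (P.IsLocalAtTarget Scheme.fppfPrecoverage)
    have hbc : (@Flat ⊓ @LocallyOfFinitePresentation : MorphismProperty Scheme.{u}).IsStableUnderBaseChange :=
      ⟨fun h hf => ⟨MorphismProperty.of_isPullback h hf.1, MorphismProperty.of_isPullback h hf.2⟩⟩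
    exact inv_of_max G P (@Flat ⊓ @LocallyOfFinitePresentation : MorphismProperty Scheme.{u})
      (fun f g _ hg => by
        have := hg.1
        have := hg.2
        exact ⟨inferInstance, inferInstance⟩)
      (fun f hf => by
        have := hf.1
        have := hf.2
        exact f.isOpenMap)
      ((Scheme.singleton_mem_precoverage_iff _ _).1 hs).2
      ((Scheme.singleton_mem_precoverage_iff _ _).1 ht).2 f ha hb W hW hmax

/-- Conjugation `r γ r⁻¹` of a `T`-point of the stabilizer. -/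
noncomputable def cj {T : Scheme.{u}} (γ : T ⟶ G.stabilizer) (r : T ⟶ G.R)
    (h : γ ≫ G.stabilizerToU = r ≫ G.s) : T ⟶ G.stabilizer :=
  stabLift G (mul G (mul G r (γ ≫ stabToR G) (by rw [Category.assoc, stabToR_t, h])) (r ≫ G.i)
    (by rw [mul_s, inv_t, Category.assoc, stabToR_s, h])) (r ≫ G.t) (by rw [mul_t, mul_t])
    (by rw [mul_s, inv_s])

lemma cj_stabilizerToU {T : Scheme.{u}} (γ : T ⟶ G.stabilizer) (r : T ⟶ G.R)
    (h : γ ≫ G.stabilizerToU = r ≫ G.s) : cj G γ r h ≫ G.stabilizerToU = r ≫ G.t :=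
  stabLift_stabilizerToU ..

lemma cj_stabToR {T : Scheme.{u}} (γ : T ⟶ G.stabilizer) (r : T ⟶ G.R)
    (h : γ ≫ G.stabilizerToU = r ≫ G.s) : cj G γ r h ≫ stabToR G =
      mul G (mul G r (γ ≫ stabToR G) (by rw [Category.assoc, stabToR_t, h])) (r ≫ G.i)
        (by rw [mul_s, inv_t, Category.assoc, stabToR_s, h]) :=
  stabLift_stabToR ..

lemma cj_congr {T : Scheme.{u}} {γ γ' : T ⟶ G.stabilizer} {r r' : T ⟶ G.R}
    (h : γ ≫ G.stabilizerToU = r ≫ G.s) (hγ : γ = γ') (hr : r = r') :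
    cj G γ r h = cj G γ' r' (by rw [← hγ, ← hr, h]) := by
  subst hγ; subst hr; rfl

lemma comp_cj {T T' : Scheme.{u}} (f : T' ⟶ T) (γ : T ⟶ G.stabilizer) (r : T ⟶ G.R)
    (h : γ ≫ G.stabilizerToU = r ≫ G.s) :
    f ≫ cj G γ r h = cj G (f ≫ γ) (f ≫ r) (by rw [Category.assoc, Category.assoc, h]) := by
  apply stab_hom_ext
  rw [Category.assoc, cj_stabToR, cj_stabToR, comp_mul]
  have h1 : f ≫ mul G r (γ ≫ stabToR G) (by rw [Category.assoc, stabToR_t, h]) =
      mul G (f ≫ r) ((f ≫ γ) ≫ stabToR G)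
        (by rw [Category.assoc, Category.assoc, Category.assoc, stabToR_t, h]) := by
    rw [comp_mul]
    exact mul_congr G _ rfl (Category.assoc _ _ _).symm
  exact mul_congr G _ h1 (Category.assoc _ _ _).symm

lemma cj_inv {T : Scheme.{u}} (γ : T ⟶ G.stabilizer) (r : T ⟶ G.R)
    (h : γ ≫ G.stabilizerToU = r ≫ G.s)
    (h' : cj G γ r h ≫ G.stabilizerToU = (r ≫ G.i) ≫ G.s) :
    cj G (cj G γ r h) (r ≫ G.i) h' = γ := by
  apply stab_hom_ext
  rw [cj_stabToR]
  have e0 : r ≫ G.s = (γ ≫ stabToR G) ≫ G.t := by rw [Category.assoc, stabToR_t, h]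
  have e1 : (r ≫ G.i) ≫ G.i = r := by rw [Category.assoc, i_i, Category.comp_id]
  have e2 : mul G r (γ ≫ stabToR G) e0 ≫ G.s = (r ≫ G.i) ≫ G.t := by
    rw [mul_s, inv_t, Category.assoc, stabToR_s, h]
  have e3 : (r ≫ G.i) ≫ G.s = mul G (mul G r (γ ≫ stabToR G) e0) (r ≫ G.i) e2 ≫ G.t := by
    rw [mul_t, mul_t, inv_s]
  have e4 : (r ≫ G.i) ≫ G.s = mul G r (γ ≫ stabToR G) e0 ≫ G.t := by rw [mul_t, inv_s]
  have e5 : mul G (r ≫ G.i) (mul G (mul G r (γ ≫ stabToR G) e0) (r ≫ G.i) e2) e3 =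
      mul G (γ ≫ stabToR G) (r ≫ G.i) (by rw [inv_t, Category.assoc, stabToR_s, h]) := by
    have h1 := (mul_assoc G (r ≫ G.i) (mul G r (γ ≫ stabToR G) e0) (r ≫ G.i) e4 e2).symm
    rw [h1]
    exact mul_congr G _ (inv_mul_cancel_left G r (γ ≫ stabToR G) e0 e4) rfl
  have e7 : (r ≫ G.i) ≫ G.s = (cj G γ r h ≫ stabToR G) ≫ G.t := by
    rw [Category.assoc (cj G γ r h), stabToR_t, h']
  have e6 : mul G (r ≫ G.i) (cj G γ r h ≫ stabToR G) e7 =
      mul G (γ ≫ stabToR G) (r ≫ G.i) (by rw [inv_t, Category.assoc, stabToR_s, h]) := by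
    rw [← e5]
    exact mul_congr G _ rfl (cj_stabToR G γ r h)
  rw [mul_congr G _ e6 e1]
  exact inv_mul_cancel_right G (γ ≫ stabToR G) r (by rw [inv_t, Category.assoc, stabToR_s, h]) _

/-- Conjugation: the base changes of the stabilizer along `s` and `t` are isomorphic. -/
theorem exists_isPullback_stab :
    ∃ (b : pullback G.stabilizerToU G.s ⟶ G.stabilizer),
      IsPullback b (pullback.snd G.stabilizerToU G.s) G.stabilizerToU G.t := by
  refine ⟨cj G (pullback.fst G.stabilizerToU G.s) (pullback.snd G.stabilizerToU G.s)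
    pullback.condition, ⟨⟨cj_stabilizerToU ..⟩, ⟨PullbackCone.IsLimit.mk _ (fun r =>
      pullback.lift (cj G r.fst (r.snd ≫ G.i) (by rw [inv_s]; exact r.condition)) r.snd
        (by rw [cj_stabilizerToU, inv_t])) ?_ ?_ ?_⟩⟩⟩
  · intro r
    rw [comp_cj, cj_congr G _ (pullback.lift_fst _ _ _) (pullback.lift_snd _ _ _)]
    have h1 : r.fst ≫ G.stabilizerToU = (r.snd ≫ G.i) ≫ G.s := by rw [inv_s]; exact r.condition
    have h2 : r.snd = (r.snd ≫ G.i) ≫ G.i := by rw [Category.assoc, i_i, Category.comp_id]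
    rw [cj_congr G _ rfl h2]
    exact cj_inv G r.fst (r.snd ≫ G.i) h1 _
  · intro r
    exact pullback.lift_snd _ _ _
  · intro r m h1 h2
    apply pullback.hom_ext
    · rw [pullback.lift_fst]
      have h3 : (m ≫ pullback.fst G.stabilizerToU G.s) ≫ G.stabilizerToU =
          (m ≫ pullback.snd G.stabilizerToU G.s) ≫ G.s := by
        rw [Category.assoc, Category.assoc, pullback.condition]
      rw [comp_cj] at h1
      rw [← cj_inv G (m ≫ pullback.fst G.stabilizerToU G.s) (m ≫ pullback.snd G.stabilizerToU G.s) h3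
        (by rw [cj_stabilizerToU, inv_s])]
      exact cj_congr G _ h1 (by rw [h2])
    · rw [pullback.lift_snd, h2]

end K393.MaxOpen
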