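import Groth.Agent.Grpsch.Points

/-!
# Arrows with target in `U'`: the morphism `src : U' ×_{g,U,t} R ⟶ U`

For a groupoid scheme `G = (U, R, s, t, c)` and `g : U' ⟶ U`, `src G g : U' ×_{g,U,t} R ⟶ U` is the
source morphism `(u', r) ↦ s r`.  The base changes of `src G g` along `s` and `t` coincide; hence
pointwise properties of `src G g` which are insensitive to base change along `s` and `t` can be
checked at the points `(u', e (g u'))`.
-/

set_option autoImplicit false
universe u

open CategoryTheory CategoryTheory.Limits AlgebraicGeometry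

namespace K393.Slice

open Groth.Agent.Grpsch.Points

variable {S : Scheme.{u}} (G : Grpd.GroupoidScheme S) {Z : Scheme.{u}} (g : Z ⟶ G.U)

/-- the source of an arrow with target in `Z` -/
noncomputable abbrev src : pullback g G.t ⟶ G.U := pullback.snd g G.t ≫ G.s

/-- `z ↦ (z, e (g z))` -/
noncomputable def sec : Z ⟶ pullback g G.t :=
  pullback.lift (𝟙 Z) (g ≫ G.e) (by rw [Category.assoc, G.e_t, Category.comp_id, Category.id_comp])

@[reassoc (attr := simp)]
lemma sec_fst : sec G g ≫ pullback.fst g G.t = 𝟙 Z := pullback.lift_fst _ _ _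

@[reassoc (attr := simp)]
lemma sec_snd : sec G g ≫ pullback.snd g G.t = g ≫ G.e := pullback.lift_snd _ _ _

@[reassoc (attr := simp)]
lemma sec_src : sec G g ≫ src G g = g := by
  rw [src, sec_snd_assoc, G.e_s, Category.comp_id]

lemma trans_aux : (pullback.fst (src G g) G.t ≫ pullback.snd g G.t) ≫ G.s =
    pullback.snd (src G g) G.t ≫ G.t := by
  rw [Category.assoc, ← pullback.condition]

/-- `((z, r), r') ↦ (z, r ∘ r')` -/
noncomputable def trans : pullback (src G g) G.t ⟶ pullback g G.t :=
  pullback.lift (pullback.fst (src G g) G.t ≫ pullback.fst g G.t)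
    (mul G (pullback.fst (src G g) G.t ≫ pullback.snd g G.t)
      (pullback.snd (src G g) G.t) (trans_aux G g))
    (by rw [mul_t, Category.assoc, pullback.condition, Category.assoc])

@[reassoc (attr := simp)]
lemma trans_snd : trans G g ≫ pullback.snd g G.t =
    mul G (pullback.fst (src G g) G.t ≫ pullback.snd g G.t) (pullback.snd (src G g) G.t)
      (trans_aux G g) := pullback.lift_snd _ _ _

@[reassoc (attr := simp)]
lemma trans_fst : trans G g ≫ pullback.fst g G.t =
    pullback.fst (src G g) G.t ≫ pullback.fst g G.t := pullback.lift_fst _ _ _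

lemma isPullback_fst : IsPullback (pullback.fst (src G g) G.t) (pullback.snd (src G g) G.t)
    (src G g) G.t := IsPullback.of_hasPullback _ _

lemma trans_src : trans G g ≫ src G g = pullback.snd (src G g) G.t ≫ G.s := by
  change trans G g ≫ pullback.snd g G.t ≫ G.s = _
  rw [trans_snd_assoc, mul_s]

variable {T : Scheme.{u}}

/-- the inverse construction: `(v, r) ↦ (v ∘ r⁻¹, r)` -/
lemma exists_untrans (v : T ⟶ pullback g G.t) (r : T ⟶ G.R) (h : v ≫ src G g = r ≫ G.s) :
    ∃ l : T ⟶ pullback (src G g) G.t, l ≫ trans G g = v ∧ l ≫ pullback.snd (src G g) G.t = r := by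
  have h1 : (v ≫ pullback.snd g G.t) ≫ G.s = (r ≫ G.i) ≫ G.t := by
    rw [inv_t, ← h, src, Category.assoc]
  let a : T ⟶ pullback g G.t := pullback.lift
    (v ≫ pullback.fst g G.t) (mul G (v ≫ pullback.snd g G.t) (r ≫ G.i) h1)
    (by rw [mul_t, Category.assoc, pullback.condition, Category.assoc])
  have ha1 : a ≫ pullback.snd g G.t = mul G (v ≫ pullback.snd g G.t) (r ≫ G.i) h1 :=
    pullback.lift_snd _ _ _
  have ha2 : a ≫ pullback.fst g G.t = v ≫ pullback.fst g G.t := pullback.lift_fst _ _ _
  have ha : a ≫ src G g = r ≫ G.t := by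
    rw [src, reassoc_of% ha1, mul_s, inv_s]
  refine ⟨pullback.lift a r ha, ?_, pullback.lift_snd _ _ _⟩
  apply pullback.hom_ext
  · rw [Category.assoc, trans_fst, pullback.lift_fst_assoc, ha2]
  · rw [Category.assoc, trans_snd, comp_mul]
    refine Eq.trans (mul_congr G _ ?_ ?_) (inv_mul_cancel_right G (v ≫ pullback.snd g G.t) r h1 ?_)
    · rw [pullback.lift_fst_assoc, ha1]
    · rw [pullback.lift_snd]
    · rw [mul_s, inv_s]

lemma trans_mono_aux {x y : T ⟶ pullback (src G g) G.t} (h1 : x ≫ trans G g = y ≫ trans G g)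
    (h2 : x ≫ pullback.snd (src G g) G.t = y ≫ pullback.snd (src G g) G.t) : x = y := by
  apply pullback.hom_ext _ h2
  have e1 := congrArg (fun f => f ≫ pullback.snd g G.t) h1
  have e2 := congrArg (fun f => f ≫ pullback.fst g G.t) h1
  simp only [Category.assoc, trans_snd, comp_mul, trans_fst] at e1 e2
  apply pullback.hom_ext
  · rw [Category.assoc, Category.assoc]
    exact e2
  · rw [Category.assoc, Category.assoc]
    have aux : ∀ x : T ⟶ pullback (src G g) G.t,
        (x ≫ pullback.fst (src G g) G.t ≫ pullback.snd g G.t) ≫ G.s =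
          (x ≫ pullback.snd (src G g) G.t) ≫ G.t := by
      intro x
      rw [Category.assoc, trans_aux, Category.assoc]
    have e3 : mul G (x ≫ pullback.fst (src G g) G.t ≫ pullback.snd g G.t)
        (x ≫ pullback.snd (src G g) G.t) (aux x) =
        mul G (y ≫ pullback.fst (src G g) G.t ≫ pullback.snd g G.t)
        (x ≫ pullback.snd (src G g) G.t) (by rw [h2]; exact aux y) := by
      rw [e1]
      exact mul_congr G _ rfl h2.symm
    exact mul_right_cancel G _ _ _ _ _ e3

lemma isPullback_trans : IsPullback (trans G g) (pullback.snd (src G g) G.t) (src G g) G.s := by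
  refine ⟨⟨trans_src G g⟩, ⟨PullbackCone.IsLimit.mk _
    (fun c => (exists_untrans G g c.fst c.snd c.condition).choose)
    (fun c => (exists_untrans G g c.fst c.snd c.condition).choose_spec.1)
    (fun c => (exists_untrans G g c.fst c.snd c.condition).choose_spec.2) ?_⟩⟩
  intro c m h1 h2
  apply trans_mono_aux
  · rw [h1, (exists_untrans G g c.fst c.snd c.condition).choose_spec.1]
  · rw [h2, (exists_untrans G g c.fst c.snd c.condition).choose_spec.2]

lemma tau_aux : 𝟙 (pullback g G.t) ≫ src G g = (pullback.snd g G.t ≫ G.i) ≫ G.t := by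
  rw [inv_t, Category.id_comp]

/-- `(z, r) ↦ ((z, r), r⁻¹)` -/
noncomputable def tau : pullback g G.t ⟶ pullback (src G g) G.t :=
  pullback.lift (𝟙 _) (pullback.snd g G.t ≫ G.i) (tau_aux G g)

@[reassoc (attr := simp)]
lemma tau_fst : tau G g ≫ pullback.fst (src G g) G.t = 𝟙 _ := pullback.lift_fst _ _ _

@[reassoc (attr := simp)]
lemma tau_snd : tau G g ≫ pullback.snd (src G g) G.t = pullback.snd g G.t ≫ G.i :=
  pullback.lift_snd _ _ _

lemma tau_trans : tau G g ≫ trans G g = pullback.fst g G.t ≫ sec G g := by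
  apply pullback.hom_ext
  · rw [Category.assoc, trans_fst, tau_fst_assoc, Category.assoc, sec_fst, Category.comp_id]
  · rw [Category.assoc (pullback.fst g G.t), sec_snd, Category.assoc, trans_snd, comp_mul]
    have h : (pullback.snd g G.t) ≫ G.s = (pullback.snd g G.t ≫ G.i) ≫ G.t := by rw [inv_t]
    refine Eq.trans (mul_congr G _ ?_ ?_) ((mul_inv G (pullback.snd g G.t) h).trans ?_)
    · rw [tau_fst_assoc]
    · rw [tau_snd]
    · rw [← pullback.condition, Category.assoc]

lemma trans_tau_apply (v : ↥(pullback g G.t)) :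
    trans G g (tau G g v) = sec G g (pullback.fst g G.t v) := by
  rw [← Scheme.Hom.comp_apply, tau_trans, Scheme.Hom.comp_apply]

lemma fst_tau_apply (v : ↥(pullback g G.t)) : pullback.fst (src G g) G.t (tau G g v) = v := by
  rw [← Scheme.Hom.comp_apply, tau_fst]
  rfl

/-- A pointwise property of `src G g` compatible with base change along `s` and `t` holds at `v` iff
it holds at `(z, e (g z))`, `z` the first projection of `v`. -/
theorem iff_sec (C : ∀ {X Y : Scheme.{u}} (_ : X ⟶ Y), X → Prop)
    (hs : ∀ (q : ↥(pullback (src G g) G.t)),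
      C (pullback.snd (src G g) G.t) q ↔ C (src G g) (trans G g q))
    (ht : ∀ (q : ↥(pullback (src G g) G.t)),
      C (pullback.snd (src G g) G.t) q ↔ C (src G g) (pullback.fst (src G g) G.t q))
    (v : ↥(pullback g G.t)) :
    C (src G g) v ↔ C (src G g) (sec G g (pullback.fst g G.t v)) := by
  have h1 := hs (tau G g v)
  have h2 := ht (tau G g v)
  rw [trans_tau_apply] at h1
  rw [fst_tau_apply] at h2
  exact h2.symm.trans h1

end K393.Slice
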