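import Groth.Agent.Sga3C.QSliceAlg
import Groth.Agent.Flat2A.ModInj
import Groth.Agent.FlatA.FibreCrit
import Groth.Agent.FlatA.FibreCrit2
import Groth.Agent.S2107

/-!
# Slicing a flat local homomorphism with Cohen-Macaulay fibre, non-Noetherian base

`exists_slice`: `R → S` flat local homomorphism of local rings, essentially of finite type, with
Cohen-Macaulay closed fibre of dimension `d`; `q : T → S` another ring map and `J` an ideal of `T`
mapped into the maximal ideal of `S`.  If `n + dim S/(m_R S + q(J) S) ≤ d`, there is a list `fs` of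
elements of `J` such that `S / (q fs)` is flat over `R` with Cohen-Macaulay closed fibre of dimension
`d - n`.
-/

set_option autoImplicit false

universe u v

namespace K393.SliceAlg

open IsLocalRing RingTheory.Sequence Pointwise Module Groth.Agent Groth.Agent.CalgB

/-- The local criterion for a nonzerodivisor on the fibre; no finite presentation is needed. -/
theorem flat_quotient_of_regular {R S : Type u} [CommRing R] [CommRing S] [IsLocalRing R]
    [IsLocalRing S] [Algebra R S] [IsLocalHom (algebraMap R S)] [Algebra.EssFiniteType R S]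
    [Module.Flat R S] (x : S)
    (hx : IsSMulRegular (S ⧸ (maximalIdeal R).map (algebraMap R S))
      (Ideal.Quotient.mk ((maximalIdeal R).map (algebraMap R S)) x)) :
    Module.Flat R (S ⧸ Ideal.span {x}) := by
  let u : S →ₗ[S] S := LinearMap.toSpanSingleton S S x
  have hu : ∀ y : S, u y ∈ (maximalIdeal R).map (algebraMap R S) • (⊤ : Submodule S S) →
      y ∈ (maximalIdeal R).map (algebraMap R S) • (⊤ : Submodule S S) := by
    intro y hy
    rw [smul_eq_mul, Ideal.mul_top] at hy ⊢
    have h1 : u y = y * x := by simp [u]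
    rw [h1] at hy
    rw [← Ideal.Quotient.eq_zero_iff_mem] at hy ⊢
    apply hx
    simp only [smul_eq_mul, mul_zero]
    rw [mul_comm, ← map_mul]
    exact hy
  have hinj : Function.Injective ((u.restrictScalars R).lTensor (ResidueField R)) := by
    change Function.Injective ((u.restrictScalars R).lTensor (R ⧸ maximalIdeal R))
    rw [injective_iff_map_eq_zero]
    intro z hz
    obtain ⟨x, rfl⟩ := TensorProduct.mk_surjective R S (R ⧸ maximalIdeal R)
      Ideal.Quotient.mk_surjective z
    rw [TensorProduct.mk_apply, LinearMap.lTensor_tmul,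
      FlatA.FibreCrit2.one_tmul_eq_zero_iff] at hz
    rw [TensorProduct.mk_apply, FlatA.FibreCrit2.one_tmul_eq_zero_iff,
      ← S2107.mem_smul_top_iff (S := S)]
    exact hu x ((S2107.mem_smul_top_iff _ _).2 hz)
  obtain ⟨_, h2, _⟩ := Flat2A.ModInj.main (N := S) (M := S) u hinj
  have h3 : ∀ I : Ideal R, (I • (⊤ : Submodule R S)).comap (u.restrictScalars R) ≤
      I • (⊤ : Submodule R S) := by
    intro I x hx
    rw [Submodule.mem_comap, ← FlatA.FibreCrit2.one_tmul_eq_zero_iff] at hx
    rw [← FlatA.FibreCrit2.one_tmul_eq_zero_iff]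
    apply h2 (R ⧸ I)
    rw [LinearMap.lTensor_tmul, hx, map_zero]
  have h4 := FlatA.FibreCrit.flat_quotient_range_of_comap_smul_le (u.restrictScalars R) h3
  have h5 : LinearMap.range u = Ideal.span {x} := by
    rw [LinearMap.range_toSpanSingleton]
  have e : (S ⧸ LinearMap.range (u.restrictScalars R)) ≃ₗ[R] (S ⧸ Ideal.span {x}) :=
    { (Submodule.quotEquivOfEq (LinearMap.range u) (Ideal.span {x}) h5).restrictScalars R with }
  exact Module.Flat.of_linearEquiv e.symm

theorem add_one_cancel {a b : WithBot ℕ∞} (h : a + 1 ≤ b + 1) : a ≤ b := by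
  induction a with
  | bot => exact bot_le
  | coe a =>
    induction b with
    | bot =>
      rw [WithBot.bot_add, le_bot_iff, ← WithBot.coe_one, ← WithBot.coe_add] at h
      exact absurd h WithBot.coe_ne_bot
    | coe b =>
      rw [← WithBot.coe_one, ← WithBot.coe_add, ← WithBot.coe_add, WithBot.coe_le_coe] at h
      rw [WithBot.coe_le_coe]
      exact (ENat.add_le_add_iff_right ENat.one_ne_top).1 h

theorem exists_slice {R : Type u} [CommRing R] [IsLocalRing R] {T : Type u}
    [CommRing T] (J : Ideal T) (n : ℕ) :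
    ∀ (d : ℕ) (S : Type u) [CommRing S] [IsLocalRing S] [Algebra R S]
      [IsLocalHom (algebraMap R S)] [Algebra.EssFiniteType R S] [Module.Flat R S] (q : T →+* S),
      (∀ t ∈ J, q t ∈ maximalIdeal S) →
      LocCoh.IsCohenMacaulayLocalRing (S ⧸ (maximalIdeal R).map (algebraMap R S)) →
      ringKrullDim (S ⧸ (maximalIdeal R).map (algebraMap R S)) = d →
      ringKrullDim (S ⧸ ((maximalIdeal R).map (algebraMap R S) ⊔ J.map q)) + n ≤ d →
      ∃ fs : List T, (∀ f ∈ fs, f ∈ J) ∧ Module.Flat R (S ⧸ (Ideal.ofList fs).map q) ∧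
        LocCoh.IsCohenMacaulayLocalRing
          (S ⧸ ((maximalIdeal R).map (algebraMap R S) ⊔ (Ideal.ofList fs).map q)) ∧
        ringKrullDim (S ⧸ ((maximalIdeal R).map (algebraMap R S) ⊔ (Ideal.ofList fs).map q)) + n
          = d := by
  induction n with
  | zero =>
    intro d S _ _ _ _ _ _ q hJ hCM hdim _
    have h0 : (Ideal.ofList ([] : List T)).map q = ⊥ := by simp
    refine ⟨[], by simp, ?_, ?_, ?_⟩
    · have e : S ≃ₗ[R] (S ⧸ (Ideal.ofList ([] : List T)).map q) :=
        ((Submodule.quotEquivOfEqBot ((Ideal.ofList ([] : List T)).map q)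
          (by simp)).restrictScalars R).symm
      exact Module.Flat.of_linearEquiv e.symm
    · rw [h0, sup_bot_eq]; exact hCM
    · rw [h0, sup_bot_eq, hdim]; simp
  | succ n ih =>
    intro d S _ _ _ _ _ _ q hJ hCM hdim hle
    set I := (maximalIdeal R).map (algebraMap R S) with hI
    have hIm : I ≤ maximalIdeal S :=
      ((local_hom_TFAE (algebraMap R S)).out 0 2 rfl rfl).mp inferInstance
    have hJm : J.map q ≤ maximalIdeal S := Ideal.map_le_iff_le_comap.2 fun t ht => hJ t ht
    have hcm : LocCoh.IsCohenMacaulayModule (S ⧸ I) (S ⧸ I) := hCM.supportDim_eq_depth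
    have hnt0 : Nontrivial (S ⧸ (I ⊔ J.map q)) := by
      rw [Ideal.Quotient.nontrivial_iff]
      intro h
      have h1 := sup_le hIm hJm
      rw [h, top_le_iff] at h1
      exact (maximalIdeal.isMaximal S).ne_top h1
    have h0le : 0 ≤ ringKrullDim (S ⧸ (I ⊔ J.map q)) := ringKrullDim_nonneg_of_nontrivial
    obtain ⟨d', rfl⟩ : ∃ d', d = d' + 1 := by
      have h1 : ((n + 1 : ℕ) : WithBot ℕ∞) ≤ d := by
        refine le_trans ?_ hle
        calc ((n + 1 : ℕ) : WithBot ℕ∞) = 0 + ((n + 1 : ℕ) : WithBot ℕ∞) := (zero_add _).symm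
          _ ≤ _ := add_le_add_left h0le _
      have h2 : n + 1 ≤ d := by exact_mod_cast h1
      exact ⟨d - 1, by omega⟩
    -- find a regular element
    obtain ⟨f, hfJ, hfreg⟩ : ∃ f ∈ J, IsSMulRegular (S ⧸ I) (Ideal.Quotient.mk I (q f)) := by
      by_contra hcon
      push Not at hcon
      have hfin : (associatedPrimes (S ⧸ I) (S ⧸ I)).Finite := associatedPrimes.finite _ _
      have hsub : (J : Set T) ⊆ ⋃ p ∈ associatedPrimes (S ⧸ I) (S ⧸ I),
          ((p.comap ((Ideal.Quotient.mk I).comp q) : Ideal T) : Set T) := by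
        intro f hf
        have h1 := hcon f hf
        have h2 := biUnion_associatedPrimes_eq_compl_regular (S ⧸ I) (S ⧸ I)
        have h3 : Ideal.Quotient.mk I (q f) ∈
            ⋃ p ∈ associatedPrimes (S ⧸ I) (S ⧸ I), (p : Set (S ⧸ I)) := by
          rw [h2]; exact h1
        obtain ⟨p, hp, hfp⟩ := Set.mem_iUnion₂.mp h3
        exact Set.mem_iUnion₂.mpr ⟨p, hp, hfp⟩
      rw [Ideal.subset_union_prime_finite hfin (f := fun p => p.comap ((Ideal.Quotient.mk I).comp q))
        ⊥ ⊥ (fun p hp _ _ => by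
          have := IsAssociatedPrime.isPrime hp
          exact Ideal.IsPrime.comap _)] at hsub
      obtain ⟨p, hp, hJp⟩ := hsub
      have h5 := CM2.ringKrullDim_quotient_of_mem_associatedPrimes hcm hp
      rw [Module.supportDim_self_eq_ringKrullDim, hdim] at h5
      have h6 : I ⊔ J.map q ≤ RingHom.ker ((Ideal.Quotient.mk p).comp (Ideal.Quotient.mk I)) := by
        apply sup_le
        · intro y hy
          rw [RingHom.mem_ker, RingHom.comp_apply, Ideal.Quotient.eq_zero_iff_mem.mpr hy, map_zero]
        · rw [Ideal.map_le_iff_le_comap]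
          intro t ht
          rw [Ideal.mem_comap, RingHom.mem_ker, RingHom.comp_apply, Ideal.Quotient.eq_zero_iff_mem]
          exact hJp ht
      have h7 : ringKrullDim ((S ⧸ I) ⧸ p) ≤ ringKrullDim (S ⧸ (I ⊔ J.map q)) :=
        ringKrullDim_le_of_surjective (Ideal.Quotient.lift _ _ (fun a ha => h6 ha))
          (Ideal.Quotient.lift_surjective_of_surjective _ _
            (Ideal.Quotient.mk_surjective.comp Ideal.Quotient.mk_surjective))
      rw [h5] at h7
      have h8 : ((d' + 1 : ℕ) : WithBot ℕ∞) + ((n + 1 : ℕ) : WithBot ℕ∞) ≤ ((d' + 1 : ℕ) : WithBot ℕ∞) :=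
        (add_le_add_left h7 _).trans hle
      have h9 : (d' + 1) + (n + 1) ≤ d' + 1 := by exact_mod_cast h8
      omega
    -- the quotient
    set x := q f with hx
    have hxm : x ∈ maximalIdeal S := hJ f hfJ
    have hne : Ideal.span {x} ≠ ⊤ := fun h => by
      have : Ideal.span {x} ≤ maximalIdeal S := (Ideal.span_singleton_le_iff_mem _).mpr hxm
      rw [h, top_le_iff] at this
      exact (maximalIdeal.isMaximal S).ne_top this
    have hnt : Nontrivial (S ⧸ Ideal.span {x}) := Ideal.Quotient.nontrivial_iff.mpr hne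
    have hloc : IsLocalRing (S ⧸ Ideal.span {x}) :=
      IsLocalRing.of_surjective' (Ideal.Quotient.mk _) Ideal.Quotient.mk_surjective
    have hlh : IsLocalHom (Ideal.Quotient.mk (Ideal.span {x})) :=
      IsLocalHom.of_surjective _ Ideal.Quotient.mk_surjective
    have halg : algebraMap R (S ⧸ Ideal.span {x}) =
        (Ideal.Quotient.mk (Ideal.span {x})).comp (algebraMap R S) := rfl
    have hlh' : IsLocalHom (algebraMap R (S ⧸ Ideal.span {x})) := by
      rw [halg]; infer_instance
    have hess : Algebra.EssFiniteType R (S ⧸ Ideal.span {x}) :=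
      Algebra.EssFiniteType.comp R S _
    have hflat : Module.Flat R (S ⧸ Ideal.span {x}) := flat_quotient_of_regular x hfreg
    have hI' : (maximalIdeal R).map (algebraMap R (S ⧸ Ideal.span {x})) =
        I.map (Ideal.Quotient.mk (Ideal.span {x})) := by
      rw [halg, ← Ideal.map_map]
    let e : ((S ⧸ I) ⧸ Ideal.span {Ideal.Quotient.mk I x}) ≃+*
        ((S ⧸ Ideal.span {x}) ⧸ (maximalIdeal R).map (algebraMap R (S ⧸ Ideal.span {x}))) :=
      (Ideal.quotEquivOfEq (by rw [Ideal.map_span, Set.image_singleton])).trans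
        ((DoubleQuot.quotQuotEquivComm I (Ideal.span {x})).trans
          (Ideal.quotEquivOfEq hI'.symm))
    have hmI : Ideal.Quotient.mk I x ∈ maximalIdeal (S ⧸ I) := by
      have hlhI : IsLocalHom (Ideal.Quotient.mk I) :=
        IsLocalHom.of_surjective _ Ideal.Quotient.mk_surjective
      exact ((IsLocalRing.local_hom_TFAE (Ideal.Quotient.mk I)).out 0 2 rfl rfl).mp hlhI
        (Ideal.mem_map_of_mem _ hxm)
    have hcm' := Sga3C.QSliceAlg.isCM_quotient_span hmI hfreg
    have hCM' : LocCoh.IsCohenMacaulayLocalRing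
        ((S ⧸ Ideal.span {x}) ⧸ (maximalIdeal R).map (algebraMap R (S ⧸ Ideal.span {x}))) :=
      CMPoly.isCohenMacaulayLocalRing_of_ringEquiv e
    have hdim' : ringKrullDim
        ((S ⧸ Ideal.span {x}) ⧸ (maximalIdeal R).map (algebraMap R (S ⧸ Ideal.span {x}))) = d' := by
      rw [← ringKrullDim_eq_of_ringEquiv e]
      have h1 := ringKrullDim_quotient_span_singleton_succ_eq_ringKrullDim hfreg hmI
      rw [hdim] at h1
      apply CM2.WithBot_add_one_cancel
      rw [h1]
      push_cast
      rfl
    have hsup : ∀ K : Ideal T, (maximalIdeal R).map (algebraMap R (S ⧸ Ideal.span {x})) ⊔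
        K.map ((Ideal.Quotient.mk (Ideal.span {x})).comp q) =
        (I ⊔ K.map q).map (Ideal.Quotient.mk (Ideal.span {x})) := by
      intro K
      rw [hI', Ideal.map_sup, ← Ideal.map_map]
    let eK : ∀ K : Ideal T, ((S ⧸ Ideal.span {x}) ⧸
        ((maximalIdeal R).map (algebraMap R (S ⧸ Ideal.span {x})) ⊔
          K.map ((Ideal.Quotient.mk (Ideal.span {x})).comp q))) ≃+*
        (S ⧸ (Ideal.span {x} ⊔ (I ⊔ K.map q))) := fun K =>
      (Ideal.quotEquivOfEq (hsup K)).trans (DoubleQuot.quotQuotEquivQuotSup _ _)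
    have hJx : Ideal.span {x} ⊔ (I ⊔ J.map q) = I ⊔ J.map q := by
      apply sup_eq_right.2
      rw [Ideal.span_singleton_le_iff_mem]
      exact Ideal.mem_sup_right (Ideal.mem_map_of_mem _ hfJ)
    have hle' : ringKrullDim ((S ⧸ Ideal.span {x}) ⧸
        ((maximalIdeal R).map (algebraMap R (S ⧸ Ideal.span {x})) ⊔
          J.map ((Ideal.Quotient.mk (Ideal.span {x})).comp q))) + n ≤ d' := by
      rw [ringKrullDim_eq_of_ringEquiv ((eK J).trans (Ideal.quotEquivOfEq hJx))]
      apply add_one_cancel
      rw [add_assoc]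
      exact_mod_cast hle
    obtain ⟨fs, hfs, hflat', hcmf, hdimf⟩ := ih d' (S ⧸ Ideal.span {x})
      ((Ideal.Quotient.mk (Ideal.span {x})).comp q)
      (fun t ht => ((IsLocalRing.local_hom_TFAE (Ideal.Quotient.mk (Ideal.span {x}))).out 0 2
        rfl rfl).mp hlh (Ideal.mem_map_of_mem _ (hJ t ht))) hCM' hdim' hle'
    have hofl : (Ideal.ofList (f :: fs)).map q = Ideal.span {x} ⊔ (Ideal.ofList fs).map q := by
      rw [Ideal.ofList_cons, Ideal.map_sup, Ideal.map_span, Set.image_singleton]
    have hsup' : Ideal.span {x} ⊔ (I ⊔ (Ideal.ofList fs).map q) =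
        I ⊔ (Ideal.ofList (f :: fs)).map q := by
      rw [hofl, sup_left_comm]
    let eF := (eK (Ideal.ofList fs)).trans (Ideal.quotEquivOfEq hsup')
    refine ⟨f :: fs, ?_, ?_, ?_, ?_⟩
    · intro g hg
      rcases List.mem_cons.mp hg with rfl | hg
      · exact hfJ
      · exact hfs g hg
    · have e1 : ((S ⧸ Ideal.span {x}) ⧸ (Ideal.ofList fs).map
          ((Ideal.Quotient.mk (Ideal.span {x})).comp q)) ≃ₐ[R]
          (S ⧸ (Ideal.ofList (f :: fs)).map q) :=
        (Ideal.quotientEquivAlgOfEq R (by rw [← Ideal.map_map]; rfl)).trans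
          ((DoubleQuot.quotQuotEquivQuotSupₐ R (Ideal.span {x}) ((Ideal.ofList fs).map q)).trans
            (Ideal.quotientEquivAlgOfEq R hofl.symm))
      exact Module.Flat.of_linearEquiv e1.symm.toLinearEquiv
    · exact CMPoly.isCohenMacaulayLocalRing_of_ringEquiv eF
    · rw [← ringKrullDim_eq_of_ringEquiv eF]
      push_cast
      rw [← hdimf]
      ring

end K393.SliceAlg
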