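import Groth.Agent.Grpd.K393.SliceLoc

/-!
# Fibre dimension along sections; the slice at a finite type point
-/

set_option autoImplicit false

universe u

open CategoryTheory CategoryTheory.Limits AlgebraicGeometry IsLocalRing

namespace K393.SliceDim

open Groth.Agent.Grpsch.Points Groth.Agent.Flat2D.PbStalk Groth.Agent K393.SliceStalk K393.Slice
open K393.SliceLoc

/-- The local dimension of the fibre at a point on a quasi-section is the dimension of the local ring
of the fibre. -/
theorem fibreDimAt_of_section {X Y Z : Scheme.{u}} (f : X ⟶ Y) [LocallyOfFiniteType f] (σ : Z ⟶ X)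
    [LocallyQuasiFinite (σ ≫ f)] [LocallyOfFiniteType (σ ≫ f)] (z : Z) :
    FlatMor.fibreDimAt f (σ z) = ringKrullDim (X.presheaf.stalk (σ z) ⧸ fiberIdeal f (σ z)) := by
  have h1 := K616.DimInv.resTrdeg_of_lqf (σ ≫ f) z
  rw [K616.DimInv.resTrdeg_comp, add_eq_zero] at h1
  rw [K616.DimInv.fibreDimAt_eq_add, h1.1, ringKrullDim_eq_of_ringEquiv (fiberStalkEquiv f (σ z))]
  simp

/-- The dimension of a nontrivial Noetherian local ring is a natural number. -/
theorem exists_natCast {R : Type u} [CommRing R] [IsLocalRing R] [IsNoetherianRing R] :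
    ∃ n : ℕ, ringKrullDim R = n := by
  have h := maximalIdeal_height_eq_ringKrullDim (R := R)
  have h2 : (maximalIdeal R).height ≠ ⊤ := Ideal.height_ne_top_of_isPrime
  refine ⟨(maximalIdeal R).height.toNat, ?_⟩
  rw [← h, ← ENat.natCast_toNat h2]
  rfl

variable {S : Scheme.{u}} (G : Grpd.GroupoidScheme S)

theorem exists_fibreDimAt_e [LocallyOfFiniteType G.s] (u : G.U) (hCM : Grpd.IsCMAt G.s (G.e u)) :
    ∃ d : ℕ, FlatMor.fibreDimAt G.s (G.e u) = d := by
  have hes : LocallyQuasiFinite (G.e ≫ G.s) := by rw [G.e_s]; infer_instance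
  have hes' : LocallyOfFiniteType (G.e ≫ G.s) := by rw [G.e_s]; infer_instance
  have hds := fibreDimAt_of_section G.s G.e u
  have := hCM.2
  obtain ⟨d, hd⟩ := exists_natCast (R := G.R.presheaf.stalk (G.e u) ⧸ fiberIdeal G.s (G.e u))
  exact ⟨d, hds.trans hd⟩

/-- The slice at a point `u` with `R|_u` locally of finite type over `κ(u)`: the fibre dimension drops
by `n`. -/
theorem exists_slice_point' [LocallyOfFiniteType G.s] [LocallyOfFiniteType G.t] (u : G.U)
    (hCM : Grpd.IsCMAt G.s (G.e u))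
    (hu : LocallyOfFiniteType (Grpsch.Restrict.restrict G (G.U.fromSpecResidueField u)).s) (n : ℕ)
    (hle : topologicalKrullDim ↥(G.stabilizerToU.fiber u) + n ≤ FlatMor.fibreDimAt G.s (G.e u)) :
    ∃ (Z : Scheme.{u}) (g : Z ⟶ G.U) (z : Z), IsAffine Z ∧ IsImmersion g ∧
      LocallyOfFinitePresentation g ∧ g z = u ∧ pullback.snd g G.t (sec G g z) = G.e u ∧
      Grpd.IsCMAt (K393.Slice.src G g) (sec G g z) ∧
      FlatMor.fibreDimAt (K393.Slice.src G g) (sec G g z) + n = FlatMor.fibreDimAt G.s (G.e u) := by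
  have htu : G.t (G.e u) = u := by rw [← Scheme.Hom.comp_apply, G.e_t]; rfl
  have hξ : G.e (G.t (G.e u)) = G.e u := by rw [htu]
  have hes : LocallyQuasiFinite (G.e ≫ G.s) := by rw [G.e_s]; infer_instance
  have hes' : LocallyOfFiniteType (G.e ≫ G.s) := by rw [G.e_s]; infer_instance
  have hds := fibreDimAt_of_section G.s G.e u
  have hst := ringKrullDim_stab' G u hu
  rw [← hst, hds] at hle
  have := hCM.2
  obtain ⟨d, hd⟩ := exists_natCast (R := G.R.presheaf.stalk (G.e u) ⧸ fiberIdeal G.s (G.e u))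
  rw [hd] at hle hds
  obtain ⟨Z, g, z, h1, h2, h3, h4, h5, h6, h7⟩ := exists_slice_local_aux G (G.e u) hξ hCM n d hd hle
  have hsec : LocallyQuasiFinite (sec G g ≫ K393.Slice.src G g) := by rw [sec_src]; infer_instance
  have hsec' : LocallyOfFiniteType (sec G g ≫ K393.Slice.src G g) := by rw [sec_src]; infer_instance
  refine ⟨Z, g, z, h1, h2, h3, h4.trans htu, h5, h6, ?_⟩
  rw [fibreDimAt_of_section (K393.Slice.src G g) (sec G g) z, h7, hds]

/-- The slice at a finite type point `u`: the fibre dimension drops by `n`. -/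
theorem exists_slice_point [LocallyOfFiniteType G.s] [LocallyOfFiniteType G.t] (u : G.U)
    (hCM : Grpd.IsCMAt G.s (G.e u)) (hu : LocallyOfFiniteType (G.U.fromSpecResidueField u)) (n : ℕ)
    (hle : topologicalKrullDim ↥(G.stabilizerToU.fiber u) + n ≤ FlatMor.fibreDimAt G.s (G.e u)) :
    ∃ (Z : Scheme.{u}) (g : Z ⟶ G.U) (z : Z), IsAffine Z ∧ IsImmersion g ∧
      LocallyOfFinitePresentation g ∧ g z = u ∧ pullback.snd g G.t (sec G g z) = G.e u ∧
      Grpd.IsCMAt (K393.Slice.src G g) (sec G g z) ∧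
      FlatMor.fibreDimAt (K393.Slice.src G g) (sec G g z) + n = FlatMor.fibreDimAt G.s (G.e u) :=
  exists_slice_point' G u hCM (locallyOfFiniteType_restrict_s G u hu) n hle

end K393.SliceDim
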