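import Groth.Agent.Grpd.K393.SliceStalk
import Groth.Agent.Grpd.K393.SliceAlg
import Groth.Agent.Grpd.K393.Slice
import Groth.Agent.AlgSp.K616.DimInv
import Mathlib.AlgebraicGeometry.Morphisms.QuasiFinite

/-!
# Slices of Cohen-Macaulay groupoid schemes at a point

`exists_slice_local`: `s` Cohen-Macaulay at `e(u)`; there is an immersion of finite presentation
`g : Z ⟶ U` through `u`, `Z` affine, such that the source morphism `Z ×_{g,U,t} R ⟶ U` is
Cohen-Macaulay at `(u, e(u))` with fibre dimension smaller by `n`.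
-/

set_option autoImplicit false

universe u

open CategoryTheory CategoryTheory.Limits AlgebraicGeometry IsLocalRing

namespace K393.SliceLoc

open Groth.Agent.Grpsch.Points Groth.Agent.Flat2D.PbStalk Groth.Agent K393.SliceStalk K393.Slice

/-- A subscheme of finite presentation of `X` through `x` with given finitely generated ideal `K` in
`O_{X,x}`. -/
theorem exists_subscheme_of_fg_ideal (X : Scheme.{u}) (x : X)
    (K : Ideal (X.presheaf.stalk x)) (hK : K ≤ IsLocalRing.maximalIdeal _) (hfg : K.FG) :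
    ∃ (Z : Scheme.{u}) (j : Z ⟶ X) (z : Z) (hz : j z = x), IsAffine Z ∧ IsImmersion j ∧
      LocallyOfFinitePresentation j ∧ RingHom.ker (stalkTo j z hz).hom = K := by
  obtain ⟨_, ⟨U, hU, rfl⟩, hxU, -⟩ := X.isBasis_affineOpens.exists_subset_of_mem_open
    (Set.mem_univ x) isOpen_univ
  replace hU : IsAffineOpen U := hU
  replace hxU : x ∈ U := hxU
  let g := X.presheaf.germ U x hxU
  have hIK0 : (K.comap g.hom).map g.hom = K := by
    algebraize [g.hom]
    have := hU.isLocalization_stalk ⟨x, hxU⟩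
    exact IsLocalization.map_under (hU.primeIdealOf ⟨x, hxU⟩).asIdeal.primeCompl
      (X.presheaf.stalk x) K
  obtain ⟨I, hIfg, hIle, hIK⟩ : ∃ I : Ideal Γ(X, U), I.FG ∧ I ≤ K.comap g.hom ∧ I.map g.hom = K := by
    have h1 : (Submodule.span (X.presheaf.stalk x) (g.hom '' (K.comap g.hom : Set Γ(X, U)))).FG := by
      change (Ideal.map g.hom (K.comap g.hom)).FG
      rw [hIK0]; exact hfg
    rw [Submodule.fg_span_iff_fg_span_finset_subset] at h1
    obtain ⟨s, hs, hs'⟩ := h1
    classical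
    obtain ⟨s₀, hs₀, rfl⟩ := Finset.subset_set_image_iff.1 hs
    refine ⟨Ideal.span s₀, ⟨s₀, rfl⟩, Ideal.span_le.2 hs₀, ?_⟩
    rw [Finset.coe_image] at hs'
    rw [Ideal.map_span, ← hIK0]
    exact hs'.symm
  let mk : Γ(X, U) ⟶ CommRingCat.of (Γ(X, U) ⧸ I) := CommRingCat.ofHom (Ideal.Quotient.mk I)
  have htop : K ≠ ⊤ := fun h => by
    rw [h, top_le_iff] at hK
    exact (IsLocalRing.maximalIdeal.isMaximal (X.presheaf.stalk x)).ne_top hK
  have hnt : Nontrivial (X.presheaf.stalk x ⧸ K) := Ideal.Quotient.nontrivial_iff.mpr htop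
  have hloc : IsLocalRing (X.presheaf.stalk x ⧸ K) :=
    IsLocalRing.of_surjective' (Ideal.Quotient.mk K) Ideal.Quotient.mk_surjective
  let q : X.presheaf.stalk x ⟶ CommRingCat.of (X.presheaf.stalk x ⧸ K) :=
    CommRingCat.ofHom (Ideal.Quotient.mk K)
  let ρ : CommRingCat.of (Γ(X, U) ⧸ I) ⟶ CommRingCat.of (X.presheaf.stalk x ⧸ K) :=
    CommRingCat.ofHom (Ideal.quotientMap K g.hom hIle)
  have hρ : g ≫ q = mk ≫ ρ := by
    ext t
    rfl
  have hst : X.fromSpecStalk x = Spec.map g ≫ hU.fromSpec := by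
    rw [← hU.fromSpecStalk_eq_fromSpecStalk hxU]; rfl
  have hmk : IsClosedImmersion (Spec.map mk) :=
    IsClosedImmersion.spec_of_surjective _ Ideal.Quotient.mk_surjective
  let θ : Spec (CommRingCat.of (X.presheaf.stalk x ⧸ K)) ⟶ Spec (CommRingCat.of (Γ(X, U) ⧸ I)) :=
    Spec.map ρ
  let j : Spec (CommRingCat.of (Γ(X, U) ⧸ I)) ⟶ X := Spec.map mk ≫ hU.fromSpec
  have hθ : θ ≫ j = Spec.map q ≫ X.fromSpecStalk x := by
    rw [hst]
    change Spec.map ρ ≫ Spec.map mk ≫ hU.fromSpec = _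
    rw [← Category.assoc, ← Spec.map_comp, ← hρ, Spec.map_comp, Category.assoc]
  have hqloc : IsLocalHom q.hom := IsLocalHom.of_surjective _ Ideal.Quotient.mk_surjective
  let pt : ↥(Spec (CommRingCat.of (X.presheaf.stalk x ⧸ K))) :=
    IsLocalRing.closedPoint (X.presheaf.stalk x ⧸ K)
  have hz : j (θ pt) = x := by
    rw [← Scheme.Hom.comp_apply, hθ, Scheme.Hom.comp_apply]
    have h0 : Spec.map q pt = IsLocalRing.closedPoint (X.presheaf.stalk x) := Spec_closedPoint
    rw [h0]
    exact Scheme.fromSpecStalk_closedPoint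
  refine ⟨_, j, θ pt, hz, inferInstance, inferInstance, ?_, ?_⟩
  · have h1 : LocallyOfFinitePresentation (Spec.map mk) := by
      rw [HasRingHomProperty.Spec_iff (P := @LocallyOfFinitePresentation)]
      refine RingHom.FinitePresentation.of_surjective _ Ideal.Quotient.mk_surjective ?_
      rw [CommRingCat.hom_ofHom, Ideal.mk_ker]
      exact hIfg
    exact MorphismProperty.comp_mem _ _ _ h1 inferInstance
  · apply le_antisymm
    · intro t ht
      have h3 := Sga3C.QStalkKer.ker_stalkTo_le (θ pt) hz _ q θ hθ rfl ht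
      exact Ideal.Quotient.eq_zero_iff_mem.mp h3
    · refine hIK.symm.le.trans ?_
      rw [Ideal.map_le_iff_le_comap]
      intro b hb
      rw [Ideal.mem_comap, RingHom.mem_ker]
      obtain ⟨τ, hτ⟩ := Spec.map_surjective ((Spec (CommRingCat.of (Γ(X, U) ⧸ I))).fromSpecStalk
        (θ pt))
      have h : g ≫ stalkTo j (θ pt) hz = mk ≫ τ := by
        apply Spec.map_injective
        rw [← cancel_mono hU.fromSpec, Spec.map_comp, Category.assoc, ← hst, SpecMap_stalkTo,
          Spec.map_comp, hτ, Category.assoc]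
      have h' := congr(($h).hom b)
      simp only [CommRingCat.hom_comp, RingHom.comp_apply] at h'
      refine h'.trans ?_
      have : mk.hom b = 0 := Ideal.Quotient.eq_zero_iff_mem.mpr hb
      rw [this]
      exact map_zero _

/-- Base change along a surjection: the fibre ring. -/
theorem nonempty_quot_equiv {R O A : Type u} [CommRing R] [CommRing O] [CommRing A] (σ : R →+* O)
    (π : O →+* A) (hπ : Function.Surjective π) (K : Ideal O) (hK : RingHom.ker π = K)
    (m : Ideal R) : Nonempty ((O ⧸ (m.map σ ⊔ K)) ≃+* (A ⧸ m.map (π.comp σ))) := by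
  let ψ : O →+* A ⧸ m.map (π.comp σ) := (Ideal.Quotient.mk _).comp π
  have hψ : Function.Surjective ψ := Ideal.Quotient.mk_surjective.comp hπ
  have hker : RingHom.ker ψ = m.map σ ⊔ K := by
    have h1 : RingHom.ker ψ = (m.map (π.comp σ)).comap π := by
      ext a
      rw [RingHom.mem_ker, Ideal.mem_comap, ← Ideal.Quotient.eq_zero_iff_mem]
      rfl
    rw [h1, ← Ideal.map_map, Ideal.comap_map_of_surjective' _ hπ, hK]
  exact ⟨(Ideal.quotEquivOfEq hker.symm).trans (RingHom.quotientKerEquivOfSurjective hψ)⟩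

theorem flat_comp_of_ker {R O A : Type u} [CommRing R] [CommRing O] [CommRing A] (σ : R →+* O)
    (π : O →+* A) (hπ : Function.Surjective π) (K : Ideal O) (hK : RingHom.ker π = K)
    (h : letI := σ.toAlgebra
      Module.Flat R (O ⧸ K)) : (π.comp σ).Flat := by
  subst hK
  let := σ.toAlgebra
  have h' : Module.Flat R (O ⧸ RingHom.ker π) := h
  let e : (O ⧸ RingHom.ker π) ≃+* A := RingHom.quotientKerEquivOfSurjective hπ
  have h1 : π.comp σ = e.toRingHom.comp (algebraMap R (O ⧸ RingHom.ker π)) := by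
    ext r
    rfl
  rw [h1]
  refine RingHom.Flat.comp ?_ (RingHom.Flat.of_bijective e.bijective)
  rw [RingHom.flat_algebraMap_iff]
  infer_instance

variable {S : Scheme.{u}} (G : Grpd.GroupoidScheme S)

/-- The stalk of `src G g` at `(z, e (g z))`. -/
theorem stalk_aux {Z : Scheme.{u}} (g : Z ⟶ G.U) [IsImmersion g] (z : Z) (ξ : G.R)
    (hz : g z = G.t ξ) (hiz : pullback.snd g G.t (sec G g z) = ξ)
    (K : Ideal (G.U.presheaf.stalk (G.t ξ))) (hker : RingHom.ker (stalkTo g z hz).hom = K)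
    (hflat : letI := (G.s.stalkMap ξ).hom.toAlgebra
      Module.Flat (G.U.presheaf.stalk (G.s ξ))
        (G.R.presheaf.stalk ξ ⧸ K.map (G.t.stalkMap ξ).hom)) :
    ((K393.Slice.src G g).stalkMap (sec G g z)).hom.Flat ∧
    Nonempty ((G.R.presheaf.stalk ξ ⧸ (fiberIdeal G.s ξ ⊔ K.map (G.t.stalkMap ξ).hom)) ≃+*
      ((pullback g G.t).presheaf.stalk (sec G g z) ⧸
        fiberIdeal (K393.Slice.src G g) (sec G g z))) := by
  subst hiz
  have H : IsPullback (pullback.snd g G.t) (pullback.fst g G.t) G.t g :=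
    (IsPullback.of_hasPullback g G.t).flip
  have hw : pullback.fst g G.t (sec G g z) = z := by
    rw [← Scheme.Hom.comp_apply, sec_fst]; rfl
  have hk := Sga3C.QStalkKer.ker_stalkTo_of_isPullback H (sec G g z) rfl hw hz
  rw [hker, stalkTo_rfl] at hk
  have hsurj : Function.Surjective ((pullback.snd g G.t).stalkMap (sec G g z)).hom :=
    (pullback.snd g G.t).stalkMap_surjective _
  have hcomp := stalkMap_comp_hom (pullback.snd g G.t) G.s (sec G g z)
  constructor
  · have h1 := flat_comp_of_ker (G.s.stalkMap (pullback.snd g G.t (sec G g z))).hom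
      ((pullback.snd g G.t).stalkMap (sec G g z)).hom hsurj _ hk hflat
    rw [← hcomp] at h1
    exact h1
  · obtain ⟨e⟩ := nonempty_quot_equiv (G.s.stalkMap (pullback.snd g G.t (sec G g z))).hom
      ((pullback.snd g G.t).stalkMap (sec G g z)).hom hsurj _ hk
      (maximalIdeal (G.U.presheaf.stalk (G.s (pullback.snd g G.t (sec G g z)))))
    refine ⟨e.trans (Ideal.quotEquivOfEq ?_)⟩
    rw [← hcomp]
    rfl

/-- The slice at a unit point. -/
theorem exists_slice_local_aux [LocallyOfFiniteType G.s] (ξ : G.R) (hξ : G.e (G.t ξ) = ξ)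
    (hCM : Grpd.IsCMAt G.s ξ) (n d : ℕ)
    (hd : ringKrullDim (G.R.presheaf.stalk ξ ⧸ fiberIdeal G.s ξ) = d)
    (hle : ringKrullDim (G.R.presheaf.stalk ξ ⧸ (fiberIdeal G.s ξ ⊔ fiberIdeal G.t ξ)) + n ≤ d) :
    ∃ (Z : Scheme.{u}) (g : Z ⟶ G.U) (z : Z), IsAffine Z ∧ IsImmersion g ∧
      LocallyOfFinitePresentation g ∧ g z = G.t ξ ∧ pullback.snd g G.t (sec G g z) = ξ ∧
      Grpd.IsCMAt (K393.Slice.src G g) (sec G g z) ∧
      ringKrullDim ((pullback g G.t).presheaf.stalk (sec G g z) ⧸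
        fiberIdeal (K393.Slice.src G g) (sec G g z)) + n = d := by
  let R := G.U.presheaf.stalk (G.s ξ)
  let T := G.U.presheaf.stalk (G.t ξ)
  let O := G.R.presheaf.stalk ξ
  let q : T →+* O := (G.t.stalkMap ξ).hom
  let algRO : Algebra R O := (G.s.stalkMap ξ).hom.toAlgebra
  have h1 : IsLocalHom (algebraMap R O) := inferInstanceAs (IsLocalHom (G.s.stalkMap ξ).hom)
  have h2 : Module.Flat R O := hCM.1
  have h3 : Algebra.EssFiniteType R O := by
    rw [← RingHom.essFiniteType_algebraMap]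
    exact LocallyOfFiniteType.stalkMap G.s ξ
  obtain ⟨fs, hfs, hflat, hcmf, hdimf⟩ := K393.SliceAlg.exists_slice (R := R) (maximalIdeal T) n d O q
    (fun t ht => fiberIdeal_le_maximalIdeal G.t ξ (Ideal.mem_map_of_mem _ ht)) hCM.2 hd hle
  let K : Ideal T := Ideal.ofList fs
  have hK : K ≤ maximalIdeal T := Ideal.span_le.mpr fun r hr => hfs r hr
  have hKfg : K.FG := Submodule.fg_span (List.finite_toSet fs)
  obtain ⟨Z, g, z, hz, hZaff, himm, hlfp, hker⟩ := exists_subscheme_of_fg_ideal G.U (G.t ξ) K hK hKfg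
  refine ⟨Z, g, z, hZaff, himm, hlfp, hz, ?_⟩
  have hiz : pullback.snd g G.t (sec G g z) = ξ := by
    rw [← Scheme.Hom.comp_apply, sec_snd, Scheme.Hom.comp_apply, hz, hξ]
  obtain ⟨hfl, ⟨e⟩⟩ := stalk_aux G g z ξ hz hiz K hker hflat
  refine ⟨hiz, ⟨hfl, ?_⟩, ?_⟩
  · have := hcmf
    exact CalgB.CMPoly.isCohenMacaulayLocalRing_of_ringEquiv e
  · rw [← ringKrullDim_eq_of_ringEquiv e]
    exact hdimf

end K393.SliceLoc
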