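import Groth.Agent.Grpsch.Points
import Groth.Agent.Grpsch.Restrict
import Groth.Agent.Grpsch.FieldStab
import Groth.Agent.Flat2D.PbStalk
import Groth.Agent.Sga3C.QStalkKer
import Mathlib.AlgebraicGeometry.Morphisms.Immersion
import Mathlib.AlgebraicGeometry.Morphisms.FinitePresentation

/-!
# Stalks of restrictions of groupoid schemes, and the dimension of the stabilizer of a point

* `exists_isPullback_stab`: the stabilizer of a restriction is a base change;
* `ker_stalkMap_toR`: the kernel of `O_{R, r} ⟶ O_{R|_u, ρ}`;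
* `ringKrullDim_stab`: if `u` is a point of finite type, then
  `dim O_{R,e(u)} / (s(m_u) + t(m_u)) = dim G_u`;
* `exists_subscheme_of_fg_ideal`: immersions of finite presentation with given stalk.
-/

set_option autoImplicit false

universe u

open CategoryTheory CategoryTheory.Limits AlgebraicGeometry IsLocalRing

namespace K393.SliceStalk

open Groth.Agent.Grpsch.Points Groth.Agent.Grpsch.Restrict Groth.Agent.Flat2D.PbStalk
open Groth.Agent

variable {S : Scheme.{u}} (G : Grpd.GroupoidScheme S)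

theorem isPullback_of_exists {F F' U U' : Scheme.{u}} {k : F' ⟶ F} {π' : F' ⟶ U'} {π : F ⟶ U}
    {g : U' ⟶ U} (w : k ≫ π = π' ≫ g)
    (h : ∀ {T : Scheme.{u}} (a : T ⟶ F) (b : T ⟶ U'), a ≫ π = b ≫ g →
      ∃ l : T ⟶ F', l ≫ k = a ∧ l ≫ π' = b)
    (h' : ∀ {T : Scheme.{u}} (a b : T ⟶ F'), a ≫ k = b ≫ k → a ≫ π' = b ≫ π' → a = b) :
    IsPullback k π' π g :=
  ⟨⟨w⟩, ⟨PullbackCone.IsLimit.mk _ (fun r => (h r.fst r.snd r.condition).choose)
    (fun r => (h r.fst r.snd r.condition).choose_spec.1)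
    (fun r => (h r.fst r.snd r.condition).choose_spec.2)
    (fun r _ h1 h2 => h' _ _ (h1.trans (h r.fst r.snd r.condition).choose_spec.1.symm)
      (h2.trans (h r.fst r.snd r.condition).choose_spec.2.symm))⟩⟩

theorem stab_aux {U' : Scheme.{u}} (g : U' ⟶ G.U) {F : Scheme.{u}} (π : F ⟶ U')
    (σ : F ⟶ arrows G g) (ht : σ ≫ tgt G g = π) (hs : σ ≫ src G g = π)
    (hl : ∀ {T : Scheme.{u}} (a : T ⟶ arrows G g) (x : T ⟶ U'), a ≫ tgt G g = x →
      a ≫ src G g = x → ∃ l : T ⟶ F, l ≫ σ = a)
    (he : ∀ {T : Scheme.{u}} (a b : T ⟶ F), a ≫ σ = b ≫ σ → a = b) :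
    ∃ k, IsPullback k π G.stabilizerToU g := by
  have k1 : (σ ≫ toR G g) ≫ G.t = π ≫ g := by
    rw [Category.assoc, toR_t, reassoc_of% ht]
  have k2 : (σ ≫ toR G g) ≫ G.s = π ≫ g := by
    rw [Category.assoc, toR_s, reassoc_of% hs]
  refine ⟨stabLift G (σ ≫ toR G g) (π ≫ g) k1 k2,
    isPullback_of_exists (stabLift_stabilizerToU _ _ _ _ _) ?_ ?_⟩
  · intro T a b hab
    have m1 : (a ≫ stabToR G) ≫ G.t = b ≫ g := by rw [Category.assoc, stabToR_t, hab]
    have m2 : (a ≫ stabToR G) ≫ G.s = b ≫ g := by rw [Category.assoc, stabToR_s, hab]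
    obtain ⟨l, hl⟩ := hl (mk G g b (a ≫ stabToR G) b m1 m2) b (mk_tgt ..) (mk_src ..)
    refine ⟨l, ?_, ?_⟩
    · apply stab_hom_ext
      rw [Category.assoc, stabLift_stabToR, reassoc_of% hl, mk_toR]
    · rw [← ht, reassoc_of% hl, mk_tgt]
  · intro T a b h1 h2
    apply he
    have h3 := congr($h1 ≫ stabToR G)
    rw [Category.assoc, stabLift_stabToR, Category.assoc, stabLift_stabToR] at h3
    apply arrows_hom_ext
    · rw [Category.assoc, Category.assoc, ht]; exact h2
    · rw [Category.assoc, Category.assoc, h3]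
    · rw [Category.assoc, Category.assoc, hs]; exact h2

/-- The stabilizer of a restriction is a base change. -/
theorem exists_isPullback_stab {U' : Scheme.{u}} (g : U' ⟶ G.U) :
    ∃ k, IsPullback k (restrict G g).stabilizerToU G.stabilizerToU g :=
  stab_aux G g (F := (restrict G g).stabilizer) (restrict G g).stabilizerToU
    (stabToR (restrict G g)) (stabToR_t (restrict G g)) (stabToR_s (restrict G g))
    (fun a x h1 h2 => ⟨stabLift (restrict G g) a x h1 h2, stabLift_stabToR _ _ _ _ _⟩)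
    (fun _ _ h => stab_hom_ext _ h)

theorem stalkMap_comp_hom {X Y Z : Scheme.{u}} (f : X ⟶ Y) (g : Y ⟶ Z) (x : X) :
    ((f ≫ g).stalkMap x).hom = (f.stalkMap x).hom.comp (g.stalkMap (f x)).hom :=
  congrArg CommRingCat.Hom.hom (Scheme.Hom.stalkMap_comp f g x)

theorem fiberIdeal_comp {X Y Z : Scheme.{u}} (f : X ⟶ Y) (g : Y ⟶ Z) (x : X) :
    fiberIdeal (f ≫ g) x = (fiberIdeal g (f x)).map (f.stalkMap x).hom := by
  refine Eq.trans ?_ (Ideal.map_map _ _).symm
  exact congrArg (fun φ => Ideal.map φ (maximalIdeal (Z.presheaf.stalk (g (f x)))))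
    (stalkMap_comp_hom f g x)

section
variable (u : G.U)

/-- The kernel of `O_{R, r} ⟶ O_{R|_u, ρ}`. -/
theorem ker_stalkMap_toR (ρ : ↥(arrows G (G.U.fromSpecResidueField u))) :
    RingHom.ker ((toR G (G.U.fromSpecResidueField u)).stalkMap ρ).hom =
      fiberIdeal G.s (toR G (G.U.fromSpecResidueField u) ρ) ⊔
        fiberIdeal G.t (toR G (G.U.fromSpecResidueField u) ρ) := by
  let x := G.U.fromSpecResidueField u
  let i₁ : pullback x G.t ⟶ G.R := pullback.snd x G.t
  let i₂ : arrows G x ⟶ pullback x G.t := pullback.fst (i₁ ≫ G.s) x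
  have H₁ : IsPullback i₁ (pullback.fst x G.t) G.t x := (IsPullback.of_hasPullback x G.t).flip
  have H₂ : IsPullback i₂ (pullback.snd (i₁ ≫ G.s) x) (i₁ ≫ G.s) x := IsPullback.of_hasPullback _ _
  have hk1 := ker_stalkMap_of_isPullback G.t H₁ (i₂ ρ)
  have hk2 := ker_stalkMap_of_isPullback (i₁ ≫ G.s) H₂ ρ
  have hp1 : IsPreimmersion i₁ := isPreimmersion_of_isPullback G.t H₁
  have hs1 : Function.Surjective (i₁.stalkMap (i₂ ρ)).hom := i₁.stalkMap_surjective _
  have h3 : RingHom.ker ((i₂ ≫ i₁).stalkMap ρ).hom =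
      (RingHom.ker (i₂.stalkMap ρ).hom).comap (i₁.stalkMap (i₂ ρ)).hom := by
    ext a
    have h0 := congrArg (fun φ => φ a) (stalkMap_comp_hom i₂ i₁ ρ)
    exact ⟨fun h => h0.symm.trans h, fun h => h0.trans h⟩
  refine h3.trans ?_
  rw [hk2, fiberIdeal_comp, Ideal.comap_map_of_surjective' _ hs1, hk1]
  rfl

/-- The source of the restriction of `G` to a finite type point is locally of finite type. -/
theorem locallyOfFiniteType_restrict_s [LocallyOfFiniteType G.s]
    (hu : LocallyOfFiniteType (G.U.fromSpecResidueField u)) :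
    LocallyOfFiniteType (restrict G (G.U.fromSpecResidueField u)).s := by
  change LocallyOfFiniteType (src G (G.U.fromSpecResidueField u))
  unfold src
  infer_instance

/-- `dim O_{R,e(u)} / (s(m_u) + t(m_u)) = dim G_u` at a point `u` such that `R|_u` is locally of finite
type over `κ(u)`. -/
theorem ringKrullDim_stab' (hs' : LocallyOfFiniteType (restrict G (G.U.fromSpecResidueField u)).s) :
    ringKrullDim (G.R.presheaf.stalk (G.e u) ⧸ (fiberIdeal G.s (G.e u) ⊔ fiberIdeal G.t (G.e u))) =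
      topologicalKrullDim ↥(G.stabilizerToU.fiber u) := by
  let x := G.U.fromSpecResidueField u
  let G' := restrict G x
  let k := G.U.residueField u
  let eU : G'.U ≅ Spec (CommRingCat.of k) := Iso.refl _
  have hs' : LocallyOfFiniteType G'.s := hs'
  have ht' : LocallyOfFiniteType G'.t := (s_iff_t G' @LocallyOfFiniteType).mp hs'
  let pt : ↥(Spec (G.U.residueField u)) := closedPoint (G.U.residueField u)
  let e' : Spec (G.U.residueField u) ⟶ arrows G x := G'.e
  have hx : x pt = u := Scheme.fromSpecResidueField_apply _ _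
  have hρ : toR G x (e' pt) = G.e u := by
    have h1 : e' ≫ toR G x = x ≫ G.e := mk_toR G x _ _ _ (by simp) (by simp)
    rw [← Scheme.Hom.comp_apply, h1, Scheme.Hom.comp_apply, hx]
  have hpre1 : IsPreimmersion (pullback.snd x G.t) :=
    MorphismProperty.of_isPullback (IsPullback.of_hasPullback x G.t) inferInstance
  have hpre2 : IsPreimmersion (pullback.fst (pullback.snd x G.t ≫ G.s) x) :=
    MorphismProperty.of_isPullback
      (IsPullback.of_hasPullback (pullback.snd x G.t ≫ G.s) x).flip inferInstance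
  have hpre : IsPreimmersion (toR G x) :=
    inferInstanceAs (IsPreimmersion (pullback.fst (pullback.snd x G.t ≫ G.s) x ≫
      pullback.snd x G.t))
  -- the stalk
  have key : ∀ r : G.R, toR G x (e' pt) = r →
      Nonempty ((G.R.presheaf.stalk r ⧸ (fiberIdeal G.s r ⊔ fiberIdeal G.t r)) ≃+*
        (arrows G x).presheaf.stalk (e' pt)) := by
    rintro r rfl
    have h1 := ker_stalkMap_toR G u (e' pt)
    exact ⟨(Ideal.quotEquivOfEq h1.symm).trans
      (RingHom.quotientKerEquivOfSurjective ((toR G x).stalkMap_surjective _))⟩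
  obtain ⟨eq⟩ := key _ hρ
  rw [ringKrullDim_eq_of_ringEquiv eq]
  have h2 : ringKrullDim ((arrows G x).presheaf.stalk (e' pt)) =
      topologicalKrullDim G'.stabilizer := by
    rw [ringKrullDim_stalk_eq_coheight]
    exact (Grpsch.FieldDim.topologicalKrullDim_eq_coheight_e G' k eU pt).symm.trans
      (Grpsch.FieldStab.topologicalKrullDim_eq G' k eU pt)
  refine h2.trans ?_
  obtain ⟨κ, hκ⟩ := exists_isPullback_stab G x
  exact IsHomeomorph.topologicalKrullDim_eq _ (hκ.isoPullback.hom.homeomorph).isHomeomorph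

/-- `dim O_{R,e(u)} / (s(m_u) + t(m_u)) = dim G_u` at a finite type point `u`. -/
theorem ringKrullDim_stab [LocallyOfFiniteType G.s]
    (hu : LocallyOfFiniteType (G.U.fromSpecResidueField u)) :
    ringKrullDim (G.R.presheaf.stalk (G.e u) ⧸ (fiberIdeal G.s (G.e u) ⊔ fiberIdeal G.t (G.e u))) =
      topologicalKrullDim ↥(G.stabilizerToU.fiber u) :=
  ringKrullDim_stab' G u (locallyOfFiniteType_restrict_s G u hu)

end

end K393.SliceStalk
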